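import Cfsg.Agent.H95.Szep.Basic
import Cfsg.Agent.H845.HNNineteen

/-!
# S2273 for `HN`: an element of order 19 is self-centralizing (helper679)
-/

set_option autoImplicit false

namespace Cfsg.Agent.H679.SzepHN

open Subgroup

theorem szep_hn {G : Type*} [Group G] [Finite G] [IsSimpleGroup G] (h : Cfsg.Spor.IsoHN G) :
    Cfsg.Agent.H105.Sz.Szep G := by
  obtain ⟨e⟩ := h
  refine Cfsg.Agent.H105.Sz.Szep.of_equiv e ?_
  have hS : IsSimpleGroup Cfsg.Spor.HN := Cfsg.Agent.H845.HNNineteen.inst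
  have hfin : Finite Cfsg.Spor.HN := Cfsg.Agent.H845.HNNineteen.finite_HN
  obtain ⟨x, hx, hc⟩ := Cfsg.Agent.H845.HNNineteen.hn_nineteen
  have hna : ¬ IsMulCommutative Cfsg.Spor.HN := by
    intro hcomm
    have h1 : centralizer ({x} : Set Cfsg.Spor.HN) = ⊤ := by
      rw [eq_top_iff]
      intro g _
      rw [mem_centralizer_singleton_iff]
      exact hcomm.is_comm.comm _ _
    rw [h1, card_top, Cfsg.Agent.KFacts.HN.Classes.card_HN] at hc
    norm_num at hc
  exact Cfsg.Agent.H95.Szep.szep_of_self hna (z := x) (by rw [hx]; norm_num) (by rw [hc, hx])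

end Cfsg.Agent.H679.SzepHN
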