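import Cfsg.Agent.H206.ZPslBase
import Cfsg.Agent.H199.PslAut
import Cfsg.Agent.S0157

/-!
# Companion matrices with one rational eigenvalue (helper679)

* `exists_noroot` : a monic polynomial of degree `b ≥ 2` with constant term `(-1) ^ b` and no root.
* `exists_comp` : the (transposed) companion matrix; its eigenvectors are multiples of `(c ^ i)`.
* `exists_one_fix` : an element of `SL_n(F)` with exactly one fixed point on the projective space,
  the multiplicity of the root `1` of its characteristic polynomial being `n - b`.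
-/

set_option autoImplicit false

namespace Cfsg.Agent.H679.TwoPsl

open Matrix Polynomial
open Cfsg.Agent.H206.ZPsl

section poly

variable {F : Type*} [Field F] [Fintype F]

theorem exists_noroot {b : ℕ} (hb : 2 ≤ b) :
    ∃ g : F[X], g.Monic ∧ g.natDegree = b ∧ g.coeff 0 = (-1) ^ b ∧ ∀ x : F, g.eval x ≠ 0 := by
  classical
  -- the values of `(x ^ b + (-1) ^ b) / x ^ (b - 1)` for `x ≠ 0` do not cover `F`
  have h1 : ((Finset.univ.erase (0 : F)).image fun x : F => (x ^ b + (-1) ^ b) / x ^ (b - 1)) ≠ Finset.univ := by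
    intro h
    have h2 := congrArg Finset.card h
    have h3 := Finset.card_image_le (s := Finset.univ.erase (0 : F))
      (f := fun x : F => (x ^ b + (-1) ^ b) / x ^ (b - 1))
    rw [h2, Finset.card_erase_of_mem (Finset.mem_univ _), Finset.card_univ] at h3
    have h4 : 0 < Fintype.card F := Fintype.card_pos
    omega
  obtain ⟨t, ht⟩ : ∃ t : F, t ∉ ((Finset.univ.erase (0 : F)).image fun x : F => (x ^ b + (-1) ^ b) / x ^ (b - 1)) := by
    by_contra hcon
    push Not at hcon
    exact h1 (Finset.eq_univ_iff_forall.2 hcon)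
  have hdeg : (- C t * X ^ (b - 1) + C ((-1) ^ b) : F[X]).degree < (b : ℕ) := by
    refine (degree_add_le _ _).trans_lt (max_lt ?_ ?_)
    · rw [← C_neg]
      refine (degree_C_mul_X_pow_le _ _).trans_lt ?_
      exact_mod_cast (by omega : b - 1 < b)
    · refine degree_C_le.trans_lt ?_
      exact_mod_cast (by omega : 0 < b)
  have hm : (X ^ b + (- C t * X ^ (b - 1) + C ((-1) ^ b)) : F[X]).Monic := monic_X_pow_add hdeg
  refine ⟨X ^ b + (- C t * X ^ (b - 1) + C ((-1) ^ b)), hm, ?_, ?_, ?_⟩
  · rw [natDegree_add_eq_left_of_degree_lt, natDegree_X_pow]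
    rwa [degree_X_pow]
  · rw [coeff_add, coeff_add, coeff_X_pow, coeff_C_zero, if_neg (by omega), zero_add, ← C_neg, coeff_C_mul, coeff_X_pow,
      if_neg (by omega), mul_zero, zero_add]
  · intro x hx
    rw [eval_add, eval_add, eval_mul, eval_neg, eval_C, eval_pow, eval_pow, eval_X, eval_C] at hx
    have hx0 : x ≠ 0 := by
      rintro rfl
      rw [zero_pow (by omega), zero_pow (by omega), mul_zero, zero_add, zero_add] at hx
      exact pow_ne_zero b (neg_ne_zero.2 one_ne_zero) hx
    apply ht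
    refine Finset.mem_image.2 ⟨x, Finset.mem_erase.2 ⟨hx0, Finset.mem_univ _⟩, ?_⟩
    rw [div_eq_iff (pow_ne_zero _ hx0)]
    linear_combination hx

end poly

variable {F : Type*} [Field F]

/-- the transposed companion matrix -/
theorem exists_comp (f : F[X]) (hf : f.Monic) {n : ℕ} (hn : f.natDegree = n) :
    ∃ A : Matrix (Fin n) (Fin n) F, A.charpoly = f ∧
      ∀ (v : Fin n → F) (c : F), A *ᵥ v = c • v → ∀ (h0 : 0 < n) (i : Fin n), v i = c ^ (i : ℕ) * v ⟨0, h0⟩ := by
  subst hn
  have h1 : minpoly F (AdjoinRoot.powerBasis hf.ne_zero).gen = f := AdjoinRoot.minpoly_powerBasis_gen_of_monic hf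
  have h2 := charpoly_leftMulMatrix (AdjoinRoot.powerBasis hf.ne_zero)
  rw [h1] at h2
  refine ⟨(Algebra.leftMulMatrix (AdjoinRoot.powerBasis hf.ne_zero).basis (AdjoinRoot.powerBasis hf.ne_zero).gen)ᵀ, ?_, ?_⟩
  · exact (charpoly_transpose _).trans h2
  · intro v c hv h0 i
    have key : ∀ (k : ℕ) (hk : k < f.natDegree), v ⟨k, hk⟩ = c ^ k * v ⟨0, h0⟩ := by
      intro k
      induction k with
      | zero => intro _; simp
      | succ k ih =>
        intro hk
        have h3 := congrFun hv ⟨k, by omega⟩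
        have hk' : k < f.natDegree := by omega
        have h4 : ((Algebra.leftMulMatrix (AdjoinRoot.powerBasis hf.ne_zero).basis
            (AdjoinRoot.powerBasis hf.ne_zero).gen)ᵀ *ᵥ v) ⟨k, hk'⟩ = v ⟨k + 1, hk⟩ := by
          rw [PowerBasis.leftMulMatrix]
          change ∑ j : Fin f.natDegree, (if k + 1 = f.natDegree then _ else if (j : ℕ) = k + 1 then (1 : F) else 0) * v j = _
          rw [Finset.sum_eq_single (⟨k + 1, hk⟩ : Fin f.natDegree)]
          · rw [if_neg (by omega), if_pos rfl, one_mul]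
          · intro j _ hj
            rw [if_neg (by omega), if_neg (fun h => hj (Fin.ext h)), zero_mul]
          · intro h
            exact absurd (Finset.mem_univ _) h
        have h5 : v ⟨k + 1, hk⟩ = c * v ⟨k, by omega⟩ := h4.symm.trans h3
        rw [h5, ih, pow_succ]
        ring
    exact key i i.2

/-- an eigenvector with eigenvalue `c` exists iff `c` is a root of the characteristic polynomial -/
theorem exists_eigen_iff {n : ℕ} (A : Matrix (Fin n) (Fin n) F) (c : F) :
    (∃ v : Fin n → F, v ≠ 0 ∧ A *ᵥ v = c • v) ↔ A.charpoly.eval c = 0 := by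
  rw [Matrix.eval_charpoly, ← Matrix.exists_mulVec_eq_zero_iff]
  have key : ∀ v : Fin n → F, (scalar (Fin n) c - A) *ᵥ v = 0 ↔ A *ᵥ v = c • v := by
    intro v
    rw [sub_mulVec, scalar_apply, ← smul_one_eq_diagonal, smul_mulVec, one_mulVec, sub_eq_zero, eq_comm]
  exact exists_congr fun v => and_congr_right fun _ => (key v).symm

/-- the polynomial `(X - 1) ^ a * g` -/
theorem exists_one_fix [Fintype F] {n b : ℕ} (hb : b = 0 ∨ 2 ≤ b) (hbn : b < n) :
    ∃ (A : Matrix.SpecialLinearGroup (Fin n) F),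
      (∀ (v : Fin n → F) (c : F), v ≠ 0 → (A : Matrix (Fin n) (Fin n) F) *ᵥ v = c • v → c = 1 ∧
        ∀ i, v i = v ⟨0, by omega⟩) ∧
      (∃ v : Fin n → F, v ≠ 0 ∧ (A : Matrix (Fin n) (Fin n) F) *ᵥ v = v) ∧
      ((A : Matrix (Fin n) (Fin n) F).charpoly.rootMultiplicity 1 = n - b) := by
  classical
  obtain ⟨g, hg1, hg2, hg3, hg4⟩ : ∃ g : F[X], g.Monic ∧ g.natDegree = b ∧ g.coeff 0 = (-1) ^ b ∧
      ∀ x : F, g.eval x ≠ 0 := by
    rcases hb with rfl | hb
    · exact ⟨1, monic_one, natDegree_one, by rw [coeff_one_zero, pow_zero], fun x => by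
        rw [eval_one]; exact one_ne_zero⟩
    · exact exists_noroot hb
  have hm1 : ((X - C 1) ^ (n - b) : F[X]).Monic := (monic_X_sub_C 1).pow _
  have hm : ((X - C 1) ^ (n - b) * g : F[X]).Monic := hm1.mul hg1
  have hd : ((X - C 1) ^ (n - b) * g : F[X]).natDegree = n := by
    rw [hm1.natDegree_mul hg1, (monic_X_sub_C (1 : F)).natDegree_pow, natDegree_X_sub_C, hg2]
    omega
  obtain ⟨A, hA1, hA2⟩ := exists_comp _ hm hd
  have hdet : A.det = 1 := by
    rw [Matrix.det_eq_sign_charpoly_coeff, hA1, Fintype.card_fin, mul_coeff_zero, hg3, coeff_zero_eq_eval_zero,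
      eval_pow, eval_sub, eval_X, eval_C, zero_sub, ← pow_add, ← pow_add]
    exact Even.neg_one_pow ⟨n, by omega⟩
  have hroot : ∀ c : F, A.charpoly.eval c = 0 ↔ c = 1 := by
    intro c
    rw [hA1, eval_mul, mul_eq_zero, eval_pow, eval_sub, eval_X, eval_C]
    constructor
    · rintro (h | h)
      · exact sub_eq_zero.1 (pow_eq_zero_iff (by omega) |>.1 h)
      · exact absurd h (hg4 c)
    · rintro rfl
      left
      rw [sub_self, zero_pow (by omega)]
  refine ⟨⟨A, hdet⟩, ?_, ?_, ?_⟩
  · intro v c hv hc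
    have h1 : c = 1 := (hroot c).1 ((exists_eigen_iff A c).1 ⟨v, hv, hc⟩)
    subst h1
    refine ⟨rfl, fun i => ?_⟩
    have := hA2 v 1 hc (by omega) i
    rwa [one_pow, one_mul] at this
  · obtain ⟨v, hv, h⟩ := (exists_eigen_iff A 1).2 ((hroot 1).2 rfl)
    exact ⟨v, hv, by rw [one_smul] at h; exact h⟩
  · change A.charpoly.rootMultiplicity 1 = n - b
    rw [hA1, rootMultiplicity_mul hm.ne_zero, rootMultiplicity_X_sub_C_pow, rootMultiplicity_eq_zero (hg4 1), add_zero]

/-! ### conjugacy of such elements -/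

theorem eval_smul_charpoly {n : ℕ} (b : Matrix (Fin n) (Fin n) F) (z : F) :
    (z • b).charpoly.eval z = z ^ n * b.charpoly.eval 1 := by
  rw [Matrix.eval_charpoly, Matrix.eval_charpoly]
  have h : scalar (Fin n) z - z • b = z • (scalar (Fin n) 1 - b) := by
    rw [smul_sub, scalar_apply, scalar_apply, ← smul_one_eq_diagonal, ← smul_one_eq_diagonal, smul_smul, mul_one]
  rw [h, det_smul, Fintype.card_fin]

/-- two matrices, the first having only the eigenvalue `1`, similar up to a scalar -/
theorem Sim.charpoly_eq' {n : ℕ} (hn : n ≠ 0) {a b : Matrix (Fin n) (Fin n) F} (h : Sim a b)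
    (ha : ∀ c : F, a.charpoly.eval c = 0 → c = 1) (hb : b.charpoly.eval 1 = 0) : Sim1 a b := by
  refine h.sim1_of_eval (fun z _ _ h1 => ?_) hn
  apply ha
  rw [h1, eval_smul_charpoly, hb, mul_zero]

end Cfsg.Agent.H679.TwoPsl
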