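import Cfsg.Agent.H504.TwoExt
import Cfsg.Agent.H679.TwoPslPoly
import Cfsg.Agent.S0249

/-!
# `PSL_n(F)`, `n ≥ 4`: two irreducible characters with three zeros (helper679)

`row1_psl`, `row2_psl` for S4897.
-/

set_option autoImplicit false

namespace Cfsg.Agent.H679.TwoPsl

open Matrix Polynomial Cfsg Cfsg.Agent.H206.ZPsl Cfsg.Agent.H504.TwoZ Cfsg.Agent.H504.Zeros
open Cfsg.Agent.ClassicalGeometry.AutPSL.Root Cfsg.Agent.ClassicalGeometry.AutPSL.Auto
open Cfsg.Agent.H199.PslAut

section aut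

variable {F : Type*} [Field F] {n : ℕ}

theorem eval_charpoly_U (hn : n ≠ 0) (S : Finset ℕ) : (U F n S).charpoly.eval 1 = 0 := by
  rw [charpoly_U, eval_pow, eval_sub, eval_X, eval_C, sub_self, zero_pow hn]

/-- the similarity classes of the unipotent elements -/
theorem rank_of_smul_conj (hn : n ≠ 0) {S' : Finset ℕ} (hS' : ∀ i ∈ S', i + 1 < n) {a : Matrix (Fin n) (Fin n) F}
    (hdet : a.det = 1) (ha : a.charpoly.eval 1 = 0) {z : F} (g : GL (Fin n) F)
    (h : U F n S' = z • ((g : Matrix (Fin n) (Fin n) F) * a * ((g⁻¹ : GL (Fin n) F) : Matrix (Fin n) (Fin n) F))) :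
    (a - 1).rank = S'.card := by
  have hz : z ^ n = 1 := by
    have h1 := congrArg Matrix.det h
    rw [det_U, det_smul, Fintype.card_fin, det_mul, det_mul, hdet, mul_one, ← det_mul, ← Units.val_mul, mul_inv_cancel,
      Units.val_one, det_one, mul_one] at h1
    exact h1.symm
  have hsim : Sim (U F n S') a := ⟨z, g, hz, h⟩
  have h1 : Sim1 (U F n S') a := Sim.charpoly_eq' hn hsim (fun c hc => by
    rw [charpoly_U, eval_pow, eval_sub, eval_X, eval_C] at hc
    exact sub_eq_zero.1 (pow_eq_zero_iff hn |>.1 hc)) ha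
  have h2 := h1.sub_one.rank_eq
  rw [U_sub_one, rank_P hS'] at h2
  exact h2.symm

theorem fld_uE (σ : F ≃+* F) (S : Finset ℕ) : fld σ (uE F n S) = uE F n S := by
  apply Subtype.ext
  ext i j
  rw [coe_fld_apply]
  change σ (U F n S i j) = U F n S i j
  rw [U, Matrix.add_apply, map_add, P, one_apply]
  congr 1
  · split_ifs
    · exact map_one σ
    · exact map_zero σ
  · split_ifs
    · exact map_one σ
    · exact map_zero σ

theorem fld_itr_uE (σ : F ≃+* F) (S : Finset ℕ) : fld σ (itr (uE F n S)) = itr (uE F n S) := by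
  apply Subtype.ext
  rw [coe_itr]
  have h : fld σ ((uE F n S)⁻¹) = (uE F n S)⁻¹ := by rw [map_inv, fld_uE]
  ext i j
  rw [coe_fld_apply, coe_itr, transpose_apply]
  have h2 : (fld σ ((uE F n S)⁻¹) : Matrix.SpecialLinearGroup (Fin n) F).1 j i =
      ((uE F n S)⁻¹ : Matrix.SpecialLinearGroup (Fin n) F).1 j i := by rw [h]
  rw [coe_fld_apply] at h2
  exact h2

/-- the rank of `u - 1` is invariant under automorphisms -/
theorem aut_U [Fintype F] (hn : 2 ≤ n) {S S' : Finset ℕ} (hS : ∀ i ∈ S, i + 1 < n) (hS' : ∀ i ∈ S', i + 1 < n)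
    (φ : MulAut (Matrix.ProjectiveSpecialLinearGroup (Fin n) F)) (h : φ (pr (uE F n S)) = pr (uE F n S')) :
    S.card = S'.card := by
  have hn0 : n ≠ 0 := by omega
  rcases exists_form hn φ with ⟨g, σ, rfl⟩ | ⟨-, g, σ, rfl⟩
  · rw [MulAut.mul_apply, phi_pr, Psi_pr, fld_uE] at h
    obtain ⟨z, hz⟩ := exists_smul_of_pr_eq h
    rw [coe_cj] at hz
    have h1 := rank_of_smul_conj hn0 hS' (det_U S) (eval_charpoly_U hn0 S) g hz
    rwa [U_sub_one, rank_P hS] at h1
  · rw [MulAut.mul_apply, MulAut.mul_apply, iot_pr, phi_pr, Psi_pr, fld_itr_uE] at h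
    obtain ⟨z, hz⟩ := exists_smul_of_pr_eq h
    rw [coe_cj] at hz
    have hinv : ((uE F n S)⁻¹ : Matrix.SpecialLinearGroup (Fin n) F).1 * U F n S = 1 :=
      congrArg (fun x : Matrix.SpecialLinearGroup (Fin n) F => (x : Matrix (Fin n) (Fin n) F)) (inv_mul_cancel (uE F n S))
    have hdet1 : ((uE F n S)⁻¹ : Matrix.SpecialLinearGroup (Fin n) F).1.det = 1 := ((uE F n S)⁻¹).2
    have h0 : (itr (uE F n S) : Matrix.SpecialLinearGroup (Fin n) F).1 =
        (((uE F n S)⁻¹ : Matrix.SpecialLinearGroup (Fin n) F).1)ᵀ := coe_itr _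
    have h2 : ((uE F n S)⁻¹ : Matrix.SpecialLinearGroup (Fin n) F).1 - 1 =
        ((uE F n S)⁻¹ : Matrix.SpecialLinearGroup (Fin n) F).1 * -(P F n 1 S) := by
      rw [← U_sub_one, mul_neg, mul_sub, hinv, mul_one, neg_sub]
    have h3 := rank_of_smul_conj hn0 hS' (a := (itr (uE F n S)).1) (itr (uE F n S)).2 ?_ g hz
    · rw [h0] at h3
      have h4 : ((((uE F n S)⁻¹ : Matrix.SpecialLinearGroup (Fin n) F).1)ᵀ - 1).rank = (P F n 1 S).rank := by
        rw [← transpose_one, ← transpose_sub, rank_transpose, h2,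
          rank_mul_eq_right_of_isUnit_det _ _ (by rw [hdet1]; exact isUnit_one)]
        have h5 : -(P F n 1 S) = (-1 : F) • P F n 1 S := by rw [neg_smul, one_smul]
        rw [h5, ← smul_one_mul, rank_mul_eq_right_of_isUnit_det]
        rw [det_smul, det_one, mul_one]
        exact (IsUnit.neg isUnit_one).pow _
      rw [h4, rank_P hS] at h3
      exact h3
    · rw [h0, charpoly_transpose, eval_charpoly]
      have h6 : scalar (Fin n) (1 : F) - ((uE F n S)⁻¹ : Matrix.SpecialLinearGroup (Fin n) F).1 =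
          ((uE F n S)⁻¹ : Matrix.SpecialLinearGroup (Fin n) F).1 * -(scalar (Fin n) (1 : F) - U F n S) := by
        rw [map_one, neg_sub, mul_sub, hinv, mul_one]
      rw [h6, det_mul, det_neg, ← eval_charpoly, eval_charpoly_U hn0, mul_zero, mul_zero]

/-- three unipotent classes -/
theorem exists_unip [Fintype F] (hn : 4 ≤ n) {p : ℕ} [CharP F p] :
    ∃ s : Finset (Matrix.ProjectiveSpecialLinearGroup (Fin n) F), AutNC s ∧ (∀ g ∈ s, p ∣ orderOf g) ∧ s.card = 3 ∧
      pr (uE F n {0}) ∈ s := by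
  classical
  let T : Fin 3 → Finset ℕ := fun k => Finset.range (k + 1)
  have hT : ∀ k, ∀ i ∈ T k, i + 1 < n := by
    intro k i hi
    have := Finset.mem_range.1 hi
    have := k.2
    omega
  have hinj : ∀ j k : Fin 3, (T j).card = (T k).card → j = k := by
    intro j k h
    simp only [T, Finset.card_range] at h
    omega
  refine ⟨Finset.univ.image fun k => pr (uE F n (T k)), ?_, ?_, ?_, ?_⟩
  · intro g hg h hh φ hφ
    obtain ⟨j, -, rfl⟩ := Finset.mem_image.1 hg
    obtain ⟨k, -, rfl⟩ := Finset.mem_image.1 hh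
    rw [hinj j k (aut_U (by omega) (hT j) (hT k) φ hφ)]
  · intro g hg
    obtain ⟨j, -, rfl⟩ := Finset.mem_image.1 hg
    exact dvd_orderOf (g := uE F n (T j)) fun m z _ h => singular_U (hT j) ⟨0, Finset.mem_range.2 (by omega)⟩ h
  · rw [Finset.card_image_of_injective, Finset.card_univ, Fintype.card_fin]
    intro j k hjk
    exact hinj j k (aut_U (by omega) (hT j) (hT k) 1 hjk)
  · refine Finset.mem_image.2 ⟨0, Finset.mem_univ _, ?_⟩
    rfl

end aut

section act

open Projectivization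

variable {F : Type*} [Field F] {n : ℕ}

theorem two_pre : MulAction.IsMultiplyPretransitive (Matrix.ProjectiveSpecialLinearGroup (Fin n) F)
    (Projectivization F (Fin n → F)) 2 := by
  have h : MulAction.IsMultiplyPretransitive (Matrix.SpecialLinearGroup (Fin n) F) (Projectivization F (Fin n → F)) 2 :=
    inferInstance
  rw [MulAction.is_two_pretransitive_iff] at h ⊢
  intro a b c d hab hcd
  obtain ⟨g, h1, h2⟩ := h hab hcd
  exact ⟨QuotientGroup.mk g, h1, h2⟩

theorem mem_fixedBy_iff (A : Matrix.SpecialLinearGroup (Fin n) F) {v : Fin n → F} (hv : v ≠ 0) :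
    Projectivization.mk F v hv ∈ MulAction.fixedBy (Projectivization F (Fin n → F)) (pr A) ↔
      ∃ c : F, (A : Matrix (Fin n) (Fin n) F) *ᵥ v = c • v := by
  rw [MulAction.mem_fixedBy]
  have h1 : (pr A : Matrix.ProjectiveSpecialLinearGroup (Fin n) F) • Projectivization.mk F v hv =
      A • Projectivization.mk F v hv := rfl
  rw [h1, Projectivization.smul_mk, Projectivization.mk_eq_mk_iff']
  constructor
  · rintro ⟨c, hc⟩
    exact ⟨c, hc.symm⟩
  · rintro ⟨c, hc⟩
    exact ⟨c, hc.symm⟩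

/-- one fixed point -/
theorem card_fixedBy_one (hn : 0 < n) {A : Matrix.SpecialLinearGroup (Fin n) F}
    (h1 : ∀ (v : Fin n → F) (c : F), v ≠ 0 → (A : Matrix (Fin n) (Fin n) F) *ᵥ v = c • v → c = 1 ∧
        ∀ i, v i = v ⟨0, hn⟩)
    (h2 : ∃ v : Fin n → F, v ≠ 0 ∧ (A : Matrix (Fin n) (Fin n) F) *ᵥ v = v) :
    Nat.card (MulAction.fixedBy (Projectivization F (Fin n → F)) (pr A)) = 1 := by
  obtain ⟨v, hv, hAv⟩ := h2
  rw [Nat.card_eq_one_iff_unique]
  refine ⟨⟨?_⟩, ⟨⟨Projectivization.mk F v hv, (mem_fixedBy_iff A hv).2 ⟨1, by rw [one_smul]; exact hAv⟩⟩⟩⟩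
  rintro ⟨x, hx⟩ ⟨y, hy⟩
  apply Subtype.ext
  change x = y
  induction x using Projectivization.ind with | _ a ha =>
  induction y using Projectivization.ind with | _ b hb =>
  obtain ⟨c, hc⟩ := (mem_fixedBy_iff A ha).1 hx
  obtain ⟨d, hd⟩ := (mem_fixedBy_iff A hb).1 hy
  have ha' := (h1 a c ha hc).2
  have hb' := (h1 b d hb hd).2
  have hb0 : b ⟨0, hn⟩ ≠ 0 := by
    intro h
    apply hb
    ext i
    rw [hb' i, h]
    rfl
  rw [Projectivization.mk_eq_mk_iff']
  refine ⟨a ⟨0, hn⟩ / b ⟨0, hn⟩, ?_⟩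
  ext i
  rw [Pi.smul_apply, smul_eq_mul, ha' i, hb' i, div_mul_cancel₀ _ hb0]

/-- `1 + E_{01}` fixes at least two points -/
theorem two_fixed (hn : 3 ≤ n) : Nat.card (MulAction.fixedBy (Projectivization F (Fin n → F)) (pr (uE F n {0}))) ≠ 1 := by
  intro h
  rw [Nat.card_eq_one_iff_unique] at h
  obtain ⟨h, -⟩ := h
  have hne : ∀ k : Fin n, (Pi.single k (1 : F) : Fin n → F) ≠ 0 := fun k h => by
    have := congrFun h k
    rw [Pi.single_eq_same, Pi.zero_apply] at this
    exact one_ne_zero this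
  have key : ∀ k : Fin n, (k : ℕ) ≠ 1 → Projectivization.mk F _ (hne k) ∈
      MulAction.fixedBy (Projectivization F (Fin n → F)) (pr (uE F n {0})) := by
    intro k hk
    refine (mem_fixedBy_iff _ (hne k)).2 ⟨1, ?_⟩
    rw [one_smul]
    change U F n {0} *ᵥ Pi.single k 1 = _
    ext i
    rw [mulVec_single_one]
    change U F n {0} i k = _
    rw [U, Matrix.add_apply, P, one_apply, Pi.single_apply, if_neg (c := (k : ℕ) = i + 1 ∧ (i : ℕ) ∈ ({0} : Finset ℕ)),
      add_zero]
    rintro ⟨h1, h2⟩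
    rw [Finset.mem_singleton] at h2
    omega
  have h1 := h.elim ⟨_, key ⟨0, by omega⟩ (by simp)⟩ ⟨_, key ⟨2, by omega⟩ (by simp)⟩
  have h2 := congrArg Subtype.val h1
  simp only at h2
  rw [Projectivization.mk_eq_mk_iff'] at h2
  obtain ⟨c, hc⟩ := h2
  have h3 := congrFun hc ⟨0, by omega⟩
  rw [Pi.smul_apply, Pi.single_eq_same, Pi.single_eq_of_ne (by simp), smul_zero] at h3
  exact zero_ne_one h3

/-- the group is not commutative -/
theorem not_comm (hn : 2 ≤ n) : ¬ IsMulCommutative (Matrix.ProjectiveSpecialLinearGroup (Fin n) F) := by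
  intro hcomm
  have hne : ∀ k : Fin n, (Pi.single k (1 : F) : Fin n → F) ≠ 0 := fun k h => by
    have := congrFun h k
    rw [Pi.single_eq_same, Pi.zero_apply] at this
    exact one_ne_zero this
  have hU : ∀ i k : Fin n, (U F n {0} *ᵥ Pi.single k 1) i = (if i = k then 1 else 0) +
      (if (k : ℕ) = i + 1 ∧ (i : ℕ) ∈ ({0} : Finset ℕ) then 1 else 0) := by
    intro i k
    rw [mulVec_single_one]
    change U F n {0} i k = _
    rw [U, Matrix.add_apply, P, one_apply]
  have h0 : Projectivization.mk F _ (hne ⟨0, by omega⟩) ∈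
      MulAction.fixedBy (Projectivization F (Fin n → F)) (pr (uE F n {0})) := by
    refine (mem_fixedBy_iff _ _).2 ⟨1, ?_⟩
    rw [one_smul]
    change U F n {0} *ᵥ Pi.single ⟨0, by omega⟩ 1 = _
    ext i
    rw [hU, if_neg (c := (_ : ℕ) = (i : ℕ) + 1 ∧ _), add_zero, Pi.single_apply]
    rintro ⟨h1, -⟩
    simp at h1
  have hpre : MulAction.IsPretransitive (Matrix.ProjectiveSpecialLinearGroup (Fin n) F) (Projectivization F (Fin n → F)) := by
    have := two_pre (F := F) (n := n)
    exact MulAction.isPretransitive_of_is_two_pretransitive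
  obtain ⟨g, hg⟩ := hpre.exists_smul_eq (Projectivization.mk F _ (hne ⟨0, by omega⟩))
    (Projectivization.mk F _ (hne ⟨1, by omega⟩))
  have h1 : Projectivization.mk F _ (hne ⟨1, by omega⟩) ∈
      MulAction.fixedBy (Projectivization F (Fin n → F)) (pr (uE F n {0})) := by
    rw [MulAction.mem_fixedBy] at h0 ⊢
    rw [← hg, ← mul_smul, hcomm.is_comm.comm (pr (uE F n {0})) g, mul_smul, h0]
  obtain ⟨c, hc⟩ := (mem_fixedBy_iff _ _).1 h1
  have h2 := congrFun hc ⟨0, by omega⟩
  have h3 : (U F n {0} *ᵥ Pi.single (⟨1, by omega⟩ : Fin n) 1) ⟨0, by omega⟩ = 1 := by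
    rw [hU, if_neg (by simp), if_pos ⟨rfl, Finset.mem_singleton.2 rfl⟩, zero_add]
  have h4 := h3.symm.trans h2
  rw [Pi.smul_apply, Pi.single_eq_of_ne (by simp), smul_zero] at h4
  exact one_ne_zero h4

end act

variable {F : Type} [Field F] [Fintype F] {n : ℕ}

theorem isLie (hn : 4 ≤ n) {p : ℕ} (hp : CharP F p) :
    IsLieTypeChar p (Matrix.ProjectiveSpecialLinearGroup (Fin n) F) :=
  Or.inl ⟨F, inferInstance, inferInstance, hp, n, by omega, fun h => by omega, ⟨MulEquiv.refl _⟩⟩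

theorem row2_psl (hn : 4 ≤ n) : Row2 (Matrix.ProjectiveSpecialLinearGroup (Fin n) F) := by
  obtain ⟨p, hp⟩ := CharP.exists F
  have hpp : p.Prime := (CharP.char_is_prime_or_zero F p).resolve_right (CharP.char_ne_zero_of_finite F p)
  have hs : IsSimpleGroup (Matrix.ProjectiveSpecialLinearGroup (Fin n) F) := Cfsg.Agent.S0249.result n (by omega)
  obtain ⟨s, hs1, hs2, hs3, -⟩ := exists_unip (F := F) hn (p := p)
  exact row2_of_lie hpp (not_comm (by omega)) (isLie hn hp) s hs1 hs2 hs3.ge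

/-- three elements with exactly one fixed point -/
theorem exists_fix (hn : 4 ≤ n) :
    ∃ s : Finset (Matrix.ProjectiveSpecialLinearGroup (Fin n) F), NonConj s ∧
      (∀ g ∈ s, Nat.card (MulAction.fixedBy (Projectivization F (Fin n → F)) g) = 1) ∧ s.card = 3 := by
  classical
  have hmem : ∀ b : ℕ, b ∈ ({0, 2, 3} : Finset ℕ) → b = 0 ∨ b = 2 ∨ b = 3 := fun b hb => by simpa using hb
  have h1 : ∀ b : ({0, 2, 3} : Finset ℕ), ∃ (A : Matrix.SpecialLinearGroup (Fin n) F),
      (∀ (v : Fin n → F) (c : F), v ≠ 0 → (A : Matrix (Fin n) (Fin n) F) *ᵥ v = c • v → c = 1 ∧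
        ∀ i, v i = v ⟨0, by omega⟩) ∧
      (∃ v : Fin n → F, v ≠ 0 ∧ (A : Matrix (Fin n) (Fin n) F) *ᵥ v = v) ∧
      ((A : Matrix (Fin n) (Fin n) F).charpoly.rootMultiplicity 1 = n - b) := by
    rintro ⟨b, hb⟩
    have hb' := hmem b hb
    exact exists_one_fix (n := n) (b := b) (by omega) (by omega)
  choose A hA1 hA2 hA3 using h1
  have hconj : ∀ b c, IsConj (pr (A b)) (pr (A c)) → b = c := by
    intro b c h
    have h2 : Sim (A b : Matrix (Fin n) (Fin n) F) (A c : Matrix (Fin n) (Fin n) F) := sim_of_isConj h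
    have h3 : Sim1 (A b : Matrix (Fin n) (Fin n) F) (A c : Matrix (Fin n) (Fin n) F) := by
      refine Sim.charpoly_eq' (by omega) h2 ?_ ?_
      · intro z hz
        obtain ⟨v, hv, hv2⟩ := (exists_eigen_iff _ _).2 hz
        exact (hA1 b v z hv hv2).1
      · obtain ⟨v, hv, hv2⟩ := hA2 c
        exact (exists_eigen_iff _ _).1 ⟨v, hv, by rw [one_smul]; exact hv2⟩
    have h4 := h3.charpoly_eq
    have h5 := hA3 b
    rw [h4, hA3 c] at h5
    have hb := hmem b b.2
    have hc := hmem c c.2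
    apply Subtype.ext
    omega
  refine ⟨Finset.univ.image fun b => pr (A b), ?_, ?_, ?_⟩
  · intro g hg h hh hc
    obtain ⟨j, -, rfl⟩ := Finset.mem_image.1 hg
    obtain ⟨k, -, rfl⟩ := Finset.mem_image.1 hh
    rw [hconj j k hc]
  · intro g hg
    obtain ⟨j, -, rfl⟩ := Finset.mem_image.1 hg
    exact card_fixedBy_one (by omega) (hA1 j) (hA2 j)
  · rw [Finset.card_image_of_injective, Finset.card_univ, Fintype.card_coe]
    · rfl
    · intro j k hjk
      refine hconj j k ?_
      have hjk' : pr (A j) = pr (A k) := hjk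
      rw [hjk']

theorem row1_psl (hn : 4 ≤ n) : Row1 (Matrix.ProjectiveSpecialLinearGroup (Fin n) F) := by
  classical
  left
  obtain ⟨p, hp⟩ := CharP.exists F
  have hpp : p.Prime := (CharP.char_is_prime_or_zero F p).resolve_right (CharP.char_ne_zero_of_finite F p)
  have hs : IsSimpleGroup (Matrix.ProjectiveSpecialLinearGroup (Fin n) F) := Cfsg.Agent.S0249.result n (by omega)
  have : Fact p.Prime := ⟨hpp⟩
  obtain ⟨s, hs1, hs2, hs3, hs4⟩ := exists_unip (F := F) hn (p := p)
  obtain ⟨t, ht1, ht2, ht3⟩ := exists_fix (F := F) hn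
  obtain ⟨θ, hθ, -⟩ := Cfsg.Agent.H761.LieExt.lie_ext (not_comm (by omega)) (isLie (F := F) hn hp)
  have hθ' : (charDegree (θ : Matrix.ProjectiveSpecialLinearGroup (Fin n) F → ℂ)).factorization p =
      (Nat.card (Matrix.ProjectiveSpecialLinearGroup (Fin n) F)).factorization p := by
    rw [hθ, Nat.factorization_pow, Finsupp.smul_apply, hpp.factorization_self, smul_eq_mul, mul_one]
  have hz : ∀ g ∈ s, (θ : Matrix.ProjectiveSpecialLinearGroup (Fin n) F → ℂ) g = 0 := fun g hg =>
    Cfsg.Agent.H713.irr_zero_of_singular hθ' (hs2 g hg)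
  have hfin : Finite (Projectivization F (Fin n → F)) := Quotient.finite _
  have hpre : MulAction.IsPretransitive (Matrix.ProjectiveSpecialLinearGroup (Fin n) F) (Projectivization F (Fin n → F)) := by
    have := two_pre (F := F) (n := n)
    exact MulAction.isPretransitive_of_is_two_pretransitive
  have h2 : 2 ≤ Nat.card (Projectivization F (Fin n → F)) := by
    by_contra hlt
    have h3 : Nat.card (Projectivization F (Fin n → F)) ≤ 1 := by omega
    have hsub : Subsingleton (Projectivization F (Fin n → F)) := Finite.card_le_one_iff_subsingleton.1 h3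
    have hne : ∀ k : Fin n, (Pi.single k (1 : F) : Fin n → F) ≠ 0 := fun k h => by
      have := congrFun h k
      rw [Pi.single_eq_same, Pi.zero_apply] at this
      exact one_ne_zero this
    have h4 := hsub.elim (Projectivization.mk F _ (hne ⟨0, by omega⟩)) (Projectivization.mk F _ (hne ⟨1, by omega⟩))
    rw [Projectivization.mk_eq_mk_iff'] at h4
    obtain ⟨c, hc⟩ := h4
    have h5 := congrFun hc ⟨0, by omega⟩
    rw [Pi.smul_apply, Pi.single_eq_same, Pi.single_eq_of_ne (by simp), smul_zero] at h5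
    exact zero_ne_one h5
  have hirr := (Cfsg.Agent.S0157.result (G := Matrix.ProjectiveSpecialLinearGroup (Fin n) F)
    (Projectivization F (Fin n → F)) h2).2 two_pre
  refine two_of_zeros (χ := ⟨_, hirr⟩) (ψ := θ) ?_ t s ht1 hs1.nonConj ?_ hz ht3.ge hs3.ge
  · intro h
    have h3 := hz _ hs4
    rw [← h] at h3
    change (Nat.card (MulAction.fixedBy (Projectivization F (Fin n → F)) (pr (uE F n {0}))) : ℂ) - 1 = 0 at h3
    rw [sub_eq_zero] at h3
    exact two_fixed (F := F) (n := n) (by omega) (by exact_mod_cast h3)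
  · intro g hg
    change (Nat.card (MulAction.fixedBy (Projectivization F (Fin n → F)) g) : ℂ) - 1 = 0
    rw [ht2 g hg, Nat.cast_one, sub_self]

end Cfsg.Agent.H679.TwoPsl
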