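import Cfsg.Agent.H679.LieCase
import Cfsg.Agent.H679.OutTwo
import Cfsg.Agent.OddHalf.Known
import Cfsg.Agent.Mrg.Omega.ML.LieRow.Lie
import Cfsg.Agent.FixBN.ReeSplit
import Cfsg.Agent.SmallSimple.PSLTwoPart
import Cfsg.Agent.TwoFusion.SLTwoFacts
import Cfsg.Agent.Classification.Order360Iso
import Cfsg.Agent.StandardComponent.AltAut
import Cfsg.Agent.OddCyclic.EmpFFAlt

/-!
# Split (B,N)-pairs of the groups of Lie type, outer automorphisms of the alternating groups (helper679)

* `hasSplit_of_lie` : a simple group of Lie type of characteristic `p` has a split (B,N)-pair of characteristic `p`;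
* `hasSplit_alt_six` : `A₆` has one, of characteristic `3`;
* `outTwo_alt` : `OutTwo Aₙ`, `n ≥ 5`, `n ≠ 6`.
-/

set_option autoImplicit false

namespace Cfsg.Agent.H679

open Subgroup Cfsg Cfsg.Agent.FixBN

universe u

/-- Every simple group of Lie type of characteristic `p` has a split (B,N)-pair of characteristic `p`. -/
theorem hasSplit_of_lie {p : ℕ} (hp : p.Prime) {K : Type*} [Group K] [IsSimpleGroup K] (h : IsLieTypeChar p K) :
    HasSplit p K := by
  by_cases h2 : p = 2
  · subst h2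
    exact Omega.ML.LieRow.hasSplit_of_lie h
  · rcases Nodes.RGDLie.hasRGD_of_lie h with h' | ⟨h', -⟩ | ⟨h', -⟩ | ⟨h3, h'⟩
    · exact Omega.ML.LieRow.hasSplit_of_rgd hp h'
    · exact absurd h' h2
    · exact absurd h' h2
    · rw [h3]
      exact FixBN.ReeSplit.hasSplit_of_isoRee h'

/-- `A₆ ≃ PSL(2, 9)` -/
theorem alt_six_equiv : ∃ (F : Type) (_ : Field F) (_ : Fintype F) (_ : CharP F 3), Fintype.card F = 9 ∧
    Nonempty (Matrix.ProjectiveSpecialLinearGroup (Fin 2) F ≃* alternatingGroup (Fin 6)) := by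
  have h3 : Fact (Nat.Prime 3) := ⟨by norm_num⟩
  have hfin : Fintype (GaloisField 3 2) := Fintype.ofFinite _
  have hc : Fintype.card (GaloisField 3 2) = 9 := by
    rw [← Nat.card_eq_fintype_card, GaloisField.card 3 2 (by norm_num)]
    norm_num
  refine ⟨GaloisField 3 2, inferInstance, hfin, inferInstance, hc, ?_⟩
  have hs : IsSimpleGroup (Matrix.ProjectiveSpecialLinearGroup (Fin 2) (GaloisField 3 2)) :=
    TwoFusion.SLTwoFacts.isSimpleGroup_psl (by rw [hc]; norm_num)
  have h1 : 2 * Nat.card (Matrix.ProjectiveSpecialLinearGroup (Fin 2) (GaloisField 3 2)) =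
      Fintype.card (GaloisField 3 2) * (Fintype.card (GaloisField 3 2) ^ 2 - 1) :=
    SmallSimple.PSLTwoPart.card_psl_two_odd (by rw [hc]; decide)
  rw [hc] at h1
  have hfG : Finite (Matrix.ProjectiveSpecialLinearGroup (Fin 2) (GaloisField 3 2)) :=
    Nat.finite_of_card_ne_zero (by omega)
  exact Classification.Order360Iso.nonempty_mulEquiv_alternating (by omega)

theorem isLie_alt_six : IsLieTypeChar 3 (alternatingGroup (Fin 6)) := by
  obtain ⟨F, i1, i2, i3, hc, ⟨e⟩⟩ := alt_six_equiv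
  exact Or.inl ⟨F, i1, i2, i3, 2, le_refl _, fun _ => by rw [hc]; norm_num, ⟨e.symm⟩⟩

theorem isLie_six {K : Type*} [Group K] (h : Nonempty (K ≃* alternatingGroup (Fin 6))) : IsLieTypeChar 3 K := by
  obtain ⟨e⟩ := h
  obtain ⟨F, i1, i2, i3, hc, ⟨f⟩⟩ := alt_six_equiv
  exact Or.inl ⟨F, i1, i2, i3, 2, le_refl _, fun _ => by rw [hc]; norm_num, ⟨e.trans f.symm⟩⟩

theorem outTwo_alt {n : ℕ} (hn : 5 ≤ n) (h6 : n ≠ 6) : OutTwo (alternatingGroup (Fin n)) := by
  apply OutTwo.alt
  intro e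
  by_cases h5 : n = 5
  · subst h5
    exact OddCyclic.EmpFFAlt.exists_conj e
  · obtain ⟨m, rfl⟩ : ∃ m, n = m + 2 := ⟨n - 2, by omega⟩
    exact StandardComponent.AltAut.exists_conj (by omega) e

end Cfsg.Agent.H679
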