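import Cfsg.Agent.H679.OneFix
import Cfsg.Agent.S0081

/-!
# Outer automorphism group a `p`-group: no automorphism has unique fixed points
-/

set_option autoImplicit false

namespace Cfsg.Agent.H679

open Subgroup MulAction

universe u

theorem normalPComplement_of_one {A : Type u} [Group A] [Finite A] {p : ℕ} [hp : Fact p.Prime] (S : Subgroup A)
    [S.Normal] (hA : ∀ a : A, ∃ n : ℕ, a ^ p ^ n ∈ S) (x : A)
    (h : ∀ (Ω : Type u) [MulAction A Ω] [Finite Ω] [Nonempty Ω], (∀ a b : Ω, ∃ k ∈ S, k • a = b) →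
      ∃! c : Ω, x • c = c) : Cfsg.HasNormalPComplement p S := by
  obtain ⟨T⟩ : Nonempty (Sylow p A) := inferInstance
  have h1 : ∀ H : Subgroup A, H ⊔ S = ⊤ → ∃! c : A ⧸ H, x • c = c := by
    intro H hH
    refine h (A ⧸ H) ?_
    intro a b
    induction a using QuotientGroup.induction_on with
    | _ a =>
    induction b using QuotientGroup.induction_on with
    | _ b =>
    -- `a⁻¹ * b = h * s`
    have h2 : a⁻¹ * b ∈ S ⊔ H := by rw [sup_comm, hH]; trivial
    rw [← SetLike.mem_coe, Subgroup.normal_mul S H] at h2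
    obtain ⟨s, hs, k, hk, hsk⟩ := Set.mem_mul.1 h2
    refine ⟨a * s * a⁻¹, ‹S.Normal›.conj_mem s hs a, ?_⟩
    change (QuotientGroup.mk (a * s * a⁻¹ * a) : A ⧸ H) = QuotientGroup.mk b
    rw [QuotientGroup.eq]
    have h3 : (a * s * a⁻¹ * a)⁻¹ * b = s⁻¹ * (a⁻¹ * b) := by group
    rw [h3, ← hsk, inv_mul_cancel_left]
    exact hk
  have hT : (T : Subgroup A) ⊔ S = ⊤ := by
    rw [← index_eq_one]
    have h2 : ((T : Subgroup A) ⊔ S).index ∣ (T : Subgroup A).index := index_dvd_of_le le_sup_left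
    have h3 : ((T : Subgroup A) ⊔ S).index ∣ S.index := index_dvd_of_le le_sup_right
    have h4 : IsPGroup p (A ⧸ S) := by
      intro a
      induction a using QuotientGroup.induction_on with
      | _ a =>
      obtain ⟨n, hn⟩ := hA a
      exact ⟨n, by rw [← QuotientGroup.mk_pow]; exact (QuotientGroup.eq_one_iff _).2 hn⟩
    obtain ⟨n, hn⟩ := IsPGroup.iff_card.1 h4
    rw [← index_eq_card] at hn
    rw [hn] at h3
    obtain ⟨m, -, hm⟩ := (Nat.dvd_prime_pow hp.1).1 h3
    have h5 := T.not_dvd_index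
    rw [hm] at h2 ⊢
    rcases Nat.eq_zero_or_pos m with rfl | hm0
    · rfl
    · exact absurd ((dvd_pow_self p hm0.ne').trans h2) h5
  have hx : IsPGroup p (zpowers x) := by
    obtain ⟨c, hc, -⟩ := h1 T hT
    induction c using QuotientGroup.induction_on with
    | _ a =>
    have h2 : a⁻¹ * x * a ∈ (T : Subgroup A) := by
      have h3 : (QuotientGroup.mk (x * a) : A ⧸ (T : Subgroup A)) = QuotientGroup.mk a := hc
      have h4 := QuotientGroup.eq.1 h3.symm
      rwa [← mul_assoc] at h4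
    rintro ⟨y, hy⟩
    obtain ⟨k, rfl⟩ := mem_zpowers_iff.1 hy
    obtain ⟨n, hn⟩ := T.isPGroup' ⟨a⁻¹ * x * a, h2⟩
    have hn' : (a⁻¹ * x * a) ^ p ^ n = 1 := by simpa using congrArg Subtype.val hn
    have h5 : x ^ p ^ n = 1 := by
      have h6 : (a⁻¹ * x * a) ^ p ^ n = a⁻¹ * x ^ p ^ n * a := by
        have := conj_pow (i := p ^ n) (a := a⁻¹) (b := x)
        rwa [inv_inv] at this
      rw [h6] at hn'
      have : x ^ p ^ n = a * (a⁻¹ * x ^ p ^ n * a) * a⁻¹ := by group
      rw [this, hn', mul_one, mul_inv_cancel]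
    refine ⟨n, Subtype.ext ?_⟩
    change (x ^ k) ^ p ^ n = 1
    rw [← zpow_natCast, ← zpow_mul, mul_comm, zpow_mul, zpow_natCast, h5, one_zpow]
  have hidx : ∀ H : Subgroup A, H ⊔ S = ⊤ → ¬ p ∣ H.index := by
    intro H hH hdvd
    obtain ⟨c, hc, hc'⟩ := h1 H hH
    have h2 := hx.card_modEq_card_fixedPoints (A ⧸ H)
    have h3 : fixedPoints (zpowers x) (A ⧸ H) = {c} := by
      ext y
      rw [Set.mem_singleton_iff]
      constructor
      · intro hy
        exact hc' y (hy ⟨x, mem_zpowers x⟩)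
      · rintro rfl ⟨z, hz⟩
        obtain ⟨k, rfl⟩ := mem_zpowers_iff.1 hz
        have h4 : x ∈ stabilizer A y := hc
        exact zpow_mem h4 k
    rw [h3, ← index_eq_card] at h2
    have h4 : Nat.card ({c} : Set (A ⧸ H)) = 1 := by simp
    rw [h4] at h2
    have h5 : H.index ≡ 0 [MOD p] := (Nat.modEq_zero_iff_dvd).2 hdvd
    have h6 := h5.symm.trans h2
    rw [Nat.ModEq, Nat.zero_mod, Nat.mod_eq_of_lt hp.1.one_lt] at h6
    exact absurd h6 (by norm_num)
  refine Cfsg.Agent.S0081.result T S ?_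
  intro y hy
  obtain ⟨hyS, hyT⟩ := mem_inf.1 hy
  refine ⟨⟨y, hyT⟩, ?_, rfl⟩
  rw [SetLike.mem_coe]
  rw [frattini, Order.radical, Subgroup.mem_iInf]
  intro M
  rw [Subgroup.mem_iInf]
  intro hM
  by_contra hyM
  -- `M ⊔ S = ⊤`
  have hMS : M.map (T : Subgroup A).subtype ⊔ S = ⊤ := by
    rw [eq_top_iff, ← hT, sup_le_iff]
    refine ⟨?_, le_sup_right⟩
    have h2 : M ⊔ zpowers ⟨y, hyT⟩ = ⊤ := by
      have hM' : IsCoatom M := hM
      apply hM'.2
      refine lt_of_le_of_ne le_sup_left fun h3 => hyM ?_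
      rw [h3]
      exact (le_sup_right : zpowers _ ≤ M ⊔ zpowers _) (mem_zpowers _)
    intro t ht
    have h3 : (⟨t, ht⟩ : T) ∈ M ⊔ zpowers (⟨y, hyT⟩ : T) := by rw [h2]; trivial
    have h4 : t ∈ (M ⊔ zpowers (⟨y, hyT⟩ : T)).map (T : Subgroup A).subtype := ⟨_, h3, rfl⟩
    rw [Subgroup.map_sup, MonoidHom.map_zpowers] at h4
    refine (sup_le_sup le_rfl ?_ : M.map (T : Subgroup A).subtype ⊔ _ ≤ _) h4
    rw [zpowers_le]
    exact hyS
  have h2 := hidx _ hMS
  have h3 : (M.map (T : Subgroup A).subtype).index = M.index * (T : Subgroup A).index := by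
    rw [index_map, (T : Subgroup A).ker_subtype, sup_bot_eq, Subgroup.range_subtype]
  rw [h3] at h2
  have hM' : IsCoatom M := hM
  have h4 : M.index ≠ 1 := fun h5 => hM'.1 (index_eq_one.1 h5)
  obtain ⟨n, hn⟩ := (IsPGroup.iff_card.1 T.isPGroup')
  have h5 : M.index ∣ p ^ n := hn ▸ M.index_dvd_card
  obtain ⟨m, -, hm⟩ := (Nat.dvd_prime_pow hp.1).1 h5
  rcases Nat.eq_zero_or_pos m with rfl | hm0
  · exact h4 (by rw [hm, pow_zero])
  · exact h2 (Dvd.dvd.mul_right (by rw [hm]; exact dvd_pow_self p hm0.ne') _)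

theorem conj_range_normal (K : Type*) [Group K] : (MulAut.conj : K →* MulAut K).range.Normal := by
  constructor
  rintro _ ⟨k, rfl⟩ α
  refine ⟨α k, ?_⟩
  ext x
  simp [MulAut.conj_apply]

theorem conj_injective {K : Type*} [Group K] [IsSimpleGroup K] (hna : ¬ ∀ a b : K, a * b = b * a) :
    Function.Injective (MulAut.conj : K →* MulAut K) := by
  rw [← MonoidHom.ker_eq_bot_iff]
  rcases (inferInstance : (MulAut.conj : K →* MulAut K).ker.Normal).eq_bot_or_eq_top with h | h
  · exact h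
  · exfalso
    apply hna
    intro a b
    have h1 : a ∈ (MulAut.conj : K →* MulAut K).ker := by rw [h]; trivial
    have h2 : (MulAut.conj a : MulAut K) b = b := by
      rw [MonoidHom.mem_ker.1 h1]; rfl
    rw [MulAut.conj_apply] at h2
    exact mul_inv_eq_iff_eq_mul.1 h2

/-- If `Out K` is a `p`-group, `p` a divisor of `|K|`, `K` simple. -/
theorem not_oneA_of_pgroup {K : Type u} [Group K] [Finite K] [IsSimpleGroup K] (hna : ¬ ∀ a b : K, a * b = b * a)
    {p : ℕ} [hp : Fact p.Prime] (hpK : p ∣ Nat.card K)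
    (hA : ∀ α : MulAut K, ∃ n : ℕ, α ^ p ^ n ∈ (MulAut.conj : K →* MulAut K).range) (τ : MulAut K) :
    ¬ OneA K τ := by
  intro hτ
  have hn := conj_range_normal K
  have hinj := conj_injective hna
  set R := (MulAut.conj : K →* MulAut K).range with hR
  obtain ⟨P, N, hN, hc⟩ := normalPComplement_of_one R hA τ (fun Ω _ _ _ ht => hτ Ω fun a b => by
    obtain ⟨_, ⟨k, rfl⟩, h⟩ := ht a b
    exact ⟨k, h⟩)
  have e : K ≃* R := MonoidHom.ofInjective hinj
  have hs : IsSimpleGroup R := (MulEquiv.isSimpleGroup_congr e).1 inferInstance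
  have hcard : Nat.card R = Nat.card K := Nat.card_congr e.symm.toEquiv
  have hc' := hc.card_mul_card
  rcases hN.eq_bot_or_eq_top with h | h
  · -- `R` is a `p`-group
    rw [h, card_bot, one_mul] at hc'
    have h1 : IsPGroup p R := by
      have h2 := P.isPGroup'
      obtain ⟨n, hn'⟩ := IsPGroup.iff_card.1 h2
      exact IsPGroup.iff_card.2 ⟨n, by rw [← hc', hn']⟩
    have h2 : IsPGroup p K := h1.of_equiv e.symm
    have : Group.IsNilpotent K := h2.isNilpotent
    have h3 : Group.IsSolvable K := inferInstance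
    exact hna (IsSimpleGroup.comm_iff_isSolvable.2 h3)
  · rw [h, card_top] at hc'
    have h1 : Nat.card P = 1 := by
      have : 0 < Nat.card R := Nat.card_pos
      exact Nat.eq_of_mul_eq_mul_left this (by rw [hc', mul_one])
    have h2 := P.card_eq_multiplicity
    rw [h1] at h2
    have h3 : (Nat.card R).factorization p ≠ 0 := by
      rw [hcard]
      exact (Nat.Prime.factorization_pos_of_dvd hp.1 Nat.card_pos.ne' hpK).ne'
    exact absurd h2.symm (Nat.one_lt_pow h3 hp.1.one_lt).ne'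

end Cfsg.Agent.H679
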