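import Cfsg.Agent.H214.S69.Defs
import Cfsg.Agent.H375.Cover
import Cfsg.Agent.Solvable.Glauberman
import Cfsg.Agent.Characters.CNBasic

/-!
# Chief factors in a normal `p`-subgroup as modules (helper679, for S3469)

* `exists_lift` : `p'`-elements lift along a surjection with kernel a `p`-group;
* `exists_lift_commute` : elements commuting with a `p'`-element lift to commuting elements;
* `pmod_of_embed` : a chief factor of `G` below the normal `p`-subgroup `K` satisfies `PMod`;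
* `exists_pmod`, `exists_pmod_fix`.
-/

set_option autoImplicit false

universe u v

namespace Cfsg.Agent.H679.PModT

open Cfsg Cfsg.Agent.H214.S69 Cfsg.Agent

section lift

variable {Q : Type*} {M : Type*} [Group Q] [Group M] (π : Q →* M)

/-- `p'`-elements lift along a surjection with kernel a `p`-group -/
theorem exists_lift (hπ : Function.Surjective π) {p : ℕ} (hp : p.Prime) (hker : IsPGroup p π.ker) {y : M}
    (hy : ¬ p ∣ orderOf y) : ∃ z : Q, π z = y ∧ orderOf z = orderOf y := by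
  obtain ⟨g, rfl⟩ := hπ y
  have h1 : g ^ orderOf (π g) ∈ π.ker := by
    rw [MonoidHom.mem_ker, map_pow, pow_orderOf_eq_one]
  obtain ⟨k, hk⟩ := hker ⟨_, h1⟩
  have h2 : (g ^ orderOf (π g)) ^ (p ^ k) = 1 := congrArg Subtype.val hk
  have h3 : (p ^ k).Coprime (orderOf (π g)) := ((Nat.Prime.coprime_iff_not_dvd hp).2 hy).pow_left k
  obtain ⟨t, ht⟩ := exists_pow_eq_self_of_coprime h3
  have h4 : π ((g ^ (p ^ k)) ^ t) = π g := by rw [map_pow, map_pow, ht]
  refine ⟨(g ^ (p ^ k)) ^ t, h4, Nat.dvd_antisymm ?_ ?_⟩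
  · apply orderOf_dvd_of_pow_eq_one
    rw [← pow_mul] at h2
    rw [← pow_mul, ← pow_mul, show p ^ k * (t * orderOf (π g)) = orderOf (π g) * p ^ k * t by ring, pow_mul, h2,
      one_pow]
  · rw [← h4]
    exact orderOf_map_dvd π _

/-- elements commuting with a `p'`-element lift to commuting elements -/
theorem exists_lift_commute [Finite Q] {p : ℕ} (hp : p.Prime) (hker : IsPGroup p π.ker) {z g : Q}
    (hz : ¬ p ∣ orderOf z) (hc : π z * π g = π g * π z) : ∃ h : Q, π h = π g ∧ z * h = h * z := by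
  have : Fact p.Prime := ⟨hp⟩
  have hcop : (Nat.card (Subgroup.zpowers z)).Coprime (Nat.card π.ker) := by
    obtain ⟨k, hk⟩ := IsPGroup.iff_card.1 hker
    rw [hk, Nat.card_zpowers]
    exact (((Nat.Prime.coprime_iff_not_dvd hp).2 hz).pow_left k).symm
  have hinf : Subgroup.zpowers z ⊓ π.ker = ⊥ := (Subgroup.disjoint_of_coprime_natCard hcop).eq_bot
  have hsolv : Group.IsSolvable (Subgroup.zpowers z) ∨ Group.IsSolvable π.ker := by
    right
    have := hker.isNilpotent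
    infer_instance
  have hcz : ∀ i : ℤ, π (z ^ i) * π g = π g * π (z ^ i) := by
    intro i
    rw [map_zpow]
    exact (Commute.zpow_left hc i).eq
  obtain ⟨k, hk, h1⟩ := Cfsg.Agent.Solvable.Glauberman.exists_smul_fixed (Subgroup.zpowers z) π.ker
    (by rw [Subgroup.normalizer_eq_top]; exact le_top) hcop hsolv (X := Q ⧸ Subgroup.zpowers z) (g : Q ⧸ Subgroup.zpowers z) (by
      rintro _ ⟨i, rfl⟩
      refine ⟨z ^ i * g * (z ^ i)⁻¹ * g⁻¹, ?_, ?_⟩
      · rw [MonoidHom.mem_ker, map_mul, map_mul, map_mul, map_inv, map_inv, hcz i]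
        group
      · change ((z ^ i * g : Q) : Q ⧸ Subgroup.zpowers z) = ((z ^ i * g * (z ^ i)⁻¹ * g⁻¹ * g : Q) : Q ⧸ Subgroup.zpowers z)
        rw [QuotientGroup.eq]
        refine ⟨-i, ?_⟩
        simp only
        group)
  have h2 := h1 z (Subgroup.mem_zpowers z)
  have h3 : ((z * (k * g) : Q) : Q ⧸ Subgroup.zpowers z) = ((k * g : Q) : Q ⧸ Subgroup.zpowers z) := h2
  rw [QuotientGroup.eq] at h3
  have h4 : (k * g)⁻¹ * z * (k * g) ∈ Subgroup.zpowers z := by
    have h5 := (Subgroup.zpowers z).inv_mem h3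
    have h6 : ((z * (k * g))⁻¹ * (k * g))⁻¹ = (k * g)⁻¹ * z * (k * g) := by group
    rwa [h6] at h5
  have hk1 : π k = 1 := hk
  refine ⟨k * g, by rw [map_mul, hk1, one_mul], ?_⟩
  have h7 : (k * g)⁻¹ * z * (k * g) * z⁻¹ ∈ Subgroup.zpowers z ⊓ π.ker := by
    refine ⟨Subgroup.mul_mem _ h4 (Subgroup.inv_mem _ (Subgroup.mem_zpowers z)), ?_⟩
    change π _ = 1
    rw [map_mul, map_mul, map_mul, map_inv, map_inv, map_mul, hk1, one_mul, mul_assoc (π g)⁻¹, hc]
    group
  rw [hinf, Subgroup.mem_bot, mul_inv_eq_one, mul_assoc, inv_mul_eq_iff_eq_mul] at h7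
  exact h7

/-- a power of order `p ^ 2` -/
theorem exists_pow_order_sq {p : ℕ} (hp : p.Prime) {x : Q} {k : ℕ} (h : x ^ (p ^ k) = 1) (h1 : x ^ p ≠ 1) :
    ∃ m : ℕ, orderOf (x ^ m) = p ^ 2 := by
  obtain ⟨j, -, hj⟩ := (Nat.dvd_prime_pow hp).1 (orderOf_dvd_of_pow_eq_one h)
  have h2 : 2 ≤ j := by
    by_contra hlt
    apply h1
    rw [← orderOf_dvd_iff_pow_eq_one, hj]
    calc p ^ j ∣ p ^ 1 := pow_dvd_pow p (by omega)
      _ = p := pow_one p
  obtain ⟨i, rfl⟩ := Nat.exists_eq_add_of_le h2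
  refine ⟨p ^ i, ?_⟩
  have h0 : p ^ i ≠ 0 := pow_ne_zero _ hp.ne_zero
  rw [orderOf_pow_of_dvd h0 (by rw [hj, pow_add]; exact dvd_mul_left _ _), hj, pow_add,
    Nat.mul_div_cancel _ (Nat.pos_of_ne_zero h0)]

end lift

section embed

variable {G : Type u} [Group G] [Finite G] {p : ℕ}

/-- a chief factor below a normal `p`-subgroup -/
theorem pmod_of_embed (hp : p.Prime) (K N : Subgroup G) [K.Normal] [N.Normal] (hNK : N ≤ K) (hK : IsPGroup p ↥K)
    {V : Type v} [AddCommGroup V] [DistribMulAction (G ⧸ K) V] (e : V → G ⧸ N) (hinj : Function.Injective e)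
    (hadd : ∀ v w, e (v + w) = e v * e w)
    (hact : ∀ (g : G) (v : V), e ((g : G ⧸ K) • v) = (g : G ⧸ N) * e v * (g : G ⧸ N)⁻¹)
    (A : Subgroup (G ⧸ N)) (hA : ∀ x, x ∈ A ↔ ∃ v, e v = x) (hAK : A ≤ K.map (QuotientGroup.mk' N))
    (hmin : ∀ B : Subgroup (G ⧸ N), B.Normal → B ≤ A → B = ⊥ ∨ B = A) (hne : ∃ v : V, v ≠ 0) :
    PMod p G K V := by
  have : Fact p.Prime := ⟨hp⟩
  have hfin : Finite V := Finite.of_injective e hinj
  -- `e` as a homomorphism
  have he0 : e 0 = 1 := by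
    have h := hadd 0 0
    rw [add_zero] at h
    exact left_eq_mul.1 h
  have heneg : ∀ v, e (-v) = (e v)⁻¹ := by
    intro v
    rw [eq_inv_iff_mul_eq_one, ← hadd, neg_add_cancel, he0]
  have hesmul : ∀ (m : ℕ) v, e (m • v) = (e v) ^ m := by
    intro m v
    induction m with
    | zero => rw [zero_smul, pow_zero, he0]
    | succ m ih => rw [succ_nsmul, hadd, ih, pow_succ]
  have he1 : ∀ v, e v = 1 → v = 0 := fun v h => hinj (h.trans he0.symm)
  -- irreducibility
  have hirr : ∀ W : AddSubgroup V, (∀ g : G ⧸ K, ∀ w ∈ W, g • w ∈ W) → W = ⊥ ∨ W = ⊤ := by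
    intro W hW
    let B : Subgroup (G ⧸ N) :=
      { carrier := {x | ∃ w ∈ W, e w = x}
        mul_mem' := by
          rintro _ _ ⟨v, hv, rfl⟩ ⟨w, hw, rfl⟩
          exact ⟨v + w, W.add_mem hv hw, hadd v w⟩
        one_mem' := ⟨0, W.zero_mem, he0⟩
        inv_mem' := by
          rintro _ ⟨v, hv, rfl⟩
          exact ⟨-v, W.neg_mem hv, heneg v⟩ }
    have hB : ∀ x, x ∈ B ↔ ∃ w ∈ W, e w = x := fun x => Iff.rfl
    have hBn : B.Normal := by
      refine ⟨?_⟩
      rintro _ ⟨w, hw, rfl⟩ g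
      obtain ⟨g, rfl⟩ := QuotientGroup.mk_surjective g
      exact ⟨(g : G ⧸ K) • w, hW _ w hw, hact g w⟩
    have hBA : B ≤ A := by
      rintro _ ⟨w, hw, rfl⟩
      exact (hA _).2 ⟨w, rfl⟩
    rcases hmin B hBn hBA with h | h
    · left
      rw [eq_bot_iff]
      intro w hw
      have h1 : e w ∈ B := ⟨w, hw, rfl⟩
      rw [h, Subgroup.mem_bot] at h1
      exact he1 w h1
    · right
      rw [eq_top_iff]
      intro w _
      have h1 : e w ∈ B := by
        rw [h]
        exact (hA _).2 ⟨w, rfl⟩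
      obtain ⟨w', hw', h2⟩ := h1
      rw [← hinj h2]
      exact hw'
  -- the map to `G ⧸ K`
  let π : G ⧸ N →* G ⧸ K := QuotientGroup.map N K (MonoidHom.id G) hNK
  have hπ : ∀ g : G, π (g : G ⧸ N) = (g : G ⧸ K) := fun g => rfl
  have hπs : Function.Surjective π := by
    intro x
    obtain ⟨g, rfl⟩ := QuotientGroup.mk_surjective x
    exact ⟨g, rfl⟩
  have hmapP : ∀ x ∈ K.map (QuotientGroup.mk' N), ∃ k, x ^ (p ^ k) = 1 := by
    rintro _ ⟨g, hg, rfl⟩
    obtain ⟨k, hk⟩ := hK ⟨g, hg⟩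
    refine ⟨k, ?_⟩
    have h1 : g ^ (p ^ k) = 1 := congrArg Subtype.val hk
    rw [← map_pow, h1, map_one]
  have hkerP : IsPGroup p π.ker := by
    rintro ⟨x, hx⟩
    obtain ⟨g, rfl⟩ := QuotientGroup.mk_surjective x
    have h1 : (g : G ⧸ K) = 1 := hx
    rw [QuotientGroup.eq_one_iff] at h1
    obtain ⟨k, hk⟩ := hmapP (g : G ⧸ N) ⟨g, h1, rfl⟩
    exact ⟨k, Subtype.ext hk⟩
  -- exponent
  have hexp : ∀ v : V, p • v = 0 := by
    obtain ⟨v, hv⟩ := hne
    obtain ⟨k, hk⟩ := hmapP (e v) (hAK ((hA _).2 ⟨v, rfl⟩))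
    let W : AddSubgroup V :=
      { carrier := {w | p • w = 0}
        add_mem' := by
          intro a b ha hb
          change p • (a + b) = 0
          have ha' : p • a = 0 := ha
          have hb' : p • b = 0 := hb
          rw [smul_add, ha', hb', add_zero]
        zero_mem' := smul_zero p
        neg_mem' := by
          intro a ha
          change p • (-a) = 0
          have ha' : p • a = 0 := ha
          rw [smul_neg, ha', neg_zero] }
    have hWinv : ∀ g : G ⧸ K, ∀ w ∈ W, g • w ∈ W := by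
      intro g w hw
      change p • (g • w) = 0
      have hw' : p • w = 0 := hw
      have h1 := (DistribSMul.toAddMonoidHom V g).map_nsmul p w
      rw [hw', map_zero] at h1
      exact h1.symm
    rcases hirr W hWinv with h | h
    · exfalso
      -- a multiple of `v` in `W`
      have h1 : (p ^ k) • v = 0 := by
        apply he1
        rw [hesmul, hk]
      have key : ∀ j : ℕ, (p ^ j) • v = 0 → v = 0 := by
        intro j
        induction j with
        | zero => intro h2; rwa [pow_zero, one_smul] at h2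
        | succ j ih =>
          intro h2
          apply ih
          have h3 : (p ^ j) • v ∈ W := by
            change p • ((p ^ j) • v) = 0
            rw [← mul_smul, ← pow_succ', h2]
          rw [h] at h3
          exact h3
      exact hv (key k h1)
    · intro w
      have h1 : w ∈ W := by rw [h]; exact AddSubgroup.mem_top w
      exact h1
  have hord : ∀ v : V, v ≠ 0 → orderOf (e v) = p := by
    intro v hv
    apply orderOf_eq_prime
    · rw [← hesmul, hexp, he0]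
    · exact fun h => hv (he1 v h)
  have hcomm : ∀ (g : G) (v : V), (g : G ⧸ K) • v = v → Commute (g : G ⧸ N) (e v) := by
    intro g v h
    have h1 := hact g v
    rw [h, eq_mul_inv_iff_mul_eq] at h1
    exact h1.symm
  have hlift : ∀ {x : G ⧸ N} {m : ℕ}, orderOf x = m → ∃ x : G, orderOf x = m := by
    intro x m h
    obtain ⟨y, hy⟩ := Cfsg.Agent.H375.Cover.exists_orderOf_of_surj (QuotientGroup.mk' N)
      (QuotientGroup.mk'_surjective N) x
    exact ⟨y, hy.trans h⟩
  refine ⟨hp, hfin, ?_, hexp, hirr, ?_, ?_⟩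
  · obtain ⟨v, hv⟩ := hne
    exact ⟨v, 0, hv⟩
  · intro y hy v hv hyv
    obtain ⟨z, hz1, hz2⟩ := exists_lift π hπs hp hkerP hy
    obtain ⟨g, rfl⟩ := QuotientGroup.mk_surjective z
    rw [hπ] at hz1
    have hc : Commute (e v) (g : G ⧸ N) := (hcomm g v (by rw [hz1]; exact hyv)).symm
    refine hlift (x := e v * (g : G ⧸ N)) ?_
    rw [hc.orderOf_mul_eq_mul_orderOf_of_coprime, hord v hv, hz2]
    rw [hord v hv, hz2]
    exact (Nat.Prime.coprime_iff_not_dvd hp).2 hy
  · intro y t hyt hy ht v hyv hnorm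
    obtain ⟨z, hz1, hz2⟩ := exists_lift π hπs hp hkerP hy
    obtain ⟨s, hs⟩ := hπs t
    obtain ⟨h, hh1, hh2⟩ := exists_lift_commute π hp hkerP (z := z) (g := s) (by rw [hz2]; exact hy)
      (by rw [hz1, hs]; exact hyt)
    rw [hs] at hh1
    obtain ⟨a, rfl⟩ := QuotientGroup.mk_surjective z
    obtain ⟨b, rfl⟩ := QuotientGroup.mk_surjective h
    rw [hπ] at hz1 hh1
    have hc1 : Commute (a : G ⧸ N) (b : G ⧸ N) := hh2
    have hc2 : Commute (a : G ⧸ N) (e v) := hcomm a v (by rw [hz1]; exact hyv)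
    have hcop : (orderOf y).Coprime (p ^ 2) := (((Nat.Prime.coprime_iff_not_dvd hp).2 hy).pow_left 2).symm
    have hfinish : ∀ x : G ⧸ N, Commute (a : G ⧸ N) x → orderOf x = p ^ 2 → ∃ x : G, orderOf x = p ^ 2 * orderOf y := by
      intro x hx hxo
      refine hlift (x := (a : G ⧸ N) * x) ?_
      rw [hx.orderOf_mul_eq_mul_orderOf_of_coprime, hz2, hxo, mul_comm]
      rw [hz2, hxo]
      exact hcop
    -- the norm
    have hbv : ∀ (m : ℕ) (w : V), e (t ^ m • w) = (b : G ⧸ N) ^ m * e w * ((b : G ⧸ N) ^ m)⁻¹ := by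
      intro m w
      rw [← hh1]
      exact hact (b ^ m) w
    have hpow : ∀ m : ℕ, (e v * (b : G ⧸ N)) ^ m = e (∑ i ∈ Finset.range m, t ^ i • v) * (b : G ⧸ N) ^ m := by
      intro m
      induction m with
      | zero => rw [Finset.range_zero, Finset.sum_empty, he0, pow_zero, pow_zero, one_mul]
      | succ m ih =>
        rw [pow_succ, ih, Finset.sum_range_succ, hadd, hbv, pow_succ]
        group
    by_cases hbp : (b : G ⧸ N) ^ p = 1
    · refine hfinish (e v * (b : G ⧸ N)) (hc2.mul_right hc1) ?_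
      have h1 := hpow p
      rw [hbp, mul_one] at h1
      refine orderOf_eq_prime_pow (n := 1) ?_ ?_
      · rw [pow_one, h1]
        exact fun h => hnorm (he1 _ h)
      · rw [pow_succ, pow_one, pow_mul, h1, ← hesmul, hexp, he0]
    · have h1 : (b : G ⧸ N) ^ p ∈ π.ker := by
        rw [MonoidHom.mem_ker, map_pow, hπ, hh1, ← ht, pow_orderOf_eq_one]
      obtain ⟨k, hk⟩ := hkerP ⟨_, h1⟩
      have h2 : (b : G ⧸ N) ^ (p ^ (k + 1)) = 1 := by
        rw [pow_succ', pow_mul]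
        exact congrArg Subtype.val hk
      obtain ⟨m, hm⟩ := exists_pow_order_sq hp h2 hbp
      exact hfinish _ (hc1.pow_right m) hm

end embed

section main

variable {G : Type u} [Group G] [Finite G] {p : ℕ}

/-- the module of a minimal normal subgroup of `G ⧸ N` below the normal `p`-subgroup `K` -/
theorem exists_of_chief (hp : p.Prime) (K N : Subgroup G) [K.Normal] [N.Normal] (hNK : N ≤ K) (hK : IsPGroup p ↥K)
    (A : Subgroup (G ⧸ N)) [hAn : A.Normal] (hA1 : A ≠ ⊥) (hAK : A ≤ K.map (QuotientGroup.mk' N))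
    (hmin : ∀ B : Subgroup (G ⧸ N), B.Normal → B ≤ A → B = ⊥ ∨ B = A) :
    ∃ (V : Type u) (_ : AddCommGroup V) (_ : DistribMulAction (G ⧸ K) V), PMod p G K V ∧
      ∃ e : V → G ⧸ N, Function.Injective e ∧ (∀ x, x ∈ A ↔ ∃ v, e v = x) ∧ e 0 = 1 ∧
        ∀ (g : G) (v : V), e ((g : G ⧸ K) • v) = (g : G ⧸ N) * e v * (g : G ⧸ N)⁻¹ := by
  have : Fact p.Prime := ⟨hp⟩
  have hLn : (K.map (QuotientGroup.mk' N)).Normal := Subgroup.Normal.map inferInstance _ (QuotientGroup.mk'_surjective N)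
  have hLp : IsPGroup p ↥(K.map (QuotientGroup.mk' N)) := hK.map _
  have hAp : IsPGroup p ↥A := hLp.to_le hAK
  -- `K` acts trivially
  have hcen : ∀ x ∈ K.map (QuotientGroup.mk' N), ∀ a ∈ A, x * a = a * x := by
    obtain ⟨w, hw, hw1, hwc⟩ := Cfsg.Agent.Characters.CNBasic.exists_mem_center_of_normal
      (K.map (QuotientGroup.mk' N)) hLp A hAp hA1 (fun t _ d hd => hAn.conj_mem d hd t)
    let B : Subgroup (G ⧸ N) := A ⊓ Subgroup.centralizer ((K.map (QuotientGroup.mk' N) : Subgroup (G ⧸ N)) : Set (G ⧸ N))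
    have hBn : B.Normal := by
      refine ⟨fun x hx g => ⟨hAn.conj_mem x hx.1 g, ?_⟩⟩
      have h1 := Subgroup.mem_centralizer_iff.1 hx.2
      refine Subgroup.mem_centralizer_iff.2 fun l hl => ?_
      have h2 := h1 (g⁻¹ * l * g) (by simpa using hLn.conj_mem l hl g⁻¹)
      calc l * (g * x * g⁻¹) = g * ((g⁻¹ * l * g) * x) * g⁻¹ := by group
        _ = g * (x * (g⁻¹ * l * g)) * g⁻¹ := by rw [h2]
        _ = g * x * g⁻¹ * l := by group
    have hBw : w ∈ B := ⟨hw, Subgroup.mem_centralizer_iff.2 hwc⟩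
    rcases hmin B hBn inf_le_left with h | h
    · rw [h, Subgroup.mem_bot] at hBw
      exact absurd hBw hw1
    · intro x hx a ha
      rw [← h] at ha
      exact Subgroup.mem_centralizer_iff.1 ha.2 x hx
  let _ : CommGroup ↥A :=
    { (inferInstance : Group ↥A) with
      mul_comm := fun a b => Subtype.ext (hcen a (hAK a.2) b b.2) }
  let ρ : G ⧸ K →* MulAut ↥A := QuotientGroup.lift K ((MulAut.conjNormal (H := A)).comp (QuotientGroup.mk' N)) (by
    intro x hx
    apply MulEquiv.ext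
    intro a
    apply Subtype.ext
    change ((MulAut.conjNormal (x : G ⧸ N) a : ↥A) : G ⧸ N) = a
    rw [MulAut.conjNormal_apply, hcen (x : G ⧸ N) ⟨x, hx, rfl⟩ a a.2, mul_inv_cancel_right])
  let _ : DistribMulAction (G ⧸ K) (Additive ↥A) :=
    { smul := fun g a => Additive.ofMul (ρ g a.toMul)
      one_smul := fun a => by
        change Additive.ofMul (ρ 1 a.toMul) = a
        rw [map_one]
        rfl
      mul_smul := fun g h a => by
        change Additive.ofMul (ρ (g * h) a.toMul) = Additive.ofMul (ρ g (ρ h a.toMul))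
        rw [map_mul]
        rfl
      smul_zero := fun g => by
        change Additive.ofMul (ρ g 1) = 0
        rw [map_one]
        rfl
      smul_add := fun g a b => by
        change Additive.ofMul (ρ g (a.toMul * b.toMul)) = Additive.ofMul (ρ g a.toMul * ρ g b.toMul)
        rw [map_mul] }
  have hact : ∀ (g : G) (v : Additive ↥A), ((((g : G ⧸ K) • v : Additive ↥A).toMul : ↥A) : G ⧸ N) =
      (g : G ⧸ N) * ((v.toMul : ↥A) : G ⧸ N) * (g : G ⧸ N)⁻¹ := by
    intro g v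
    change ((MulAut.conjNormal (g : G ⧸ N) v.toMul : ↥A) : G ⧸ N) = _
    rw [MulAut.conjNormal_apply]
  have hinj : Function.Injective fun v : Additive ↥A => ((v.toMul : ↥A) : G ⧸ N) := fun v w h =>
    Additive.toMul.injective (Subtype.ext h)
  have hA : ∀ x, x ∈ A ↔ ∃ v : Additive ↥A, ((v.toMul : ↥A) : G ⧸ N) = x := by
    intro x
    constructor
    · intro h
      exact ⟨Additive.ofMul ⟨x, h⟩, rfl⟩
    · rintro ⟨v, rfl⟩
      exact v.toMul.2
  refine ⟨Additive ↥A, inferInstance, inferInstance, ?_, fun v => ((v.toMul : ↥A) : G ⧸ N), hinj, hA, rfl, hact⟩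
  refine pmod_of_embed hp K N hNK hK (fun v : Additive ↥A => ((v.toMul : ↥A) : G ⧸ N)) hinj (fun _ _ => rfl) hact A
    hA hAK hmin ?_
  obtain ⟨x, hx, hx1⟩ := (Subgroup.ne_bot_iff_exists_ne_one).1 hA1 |>.imp (fun x hx => hx) |> fun ⟨x, hx⟩ =>
    (⟨x.1, x.2, fun h => hx (Subtype.ext h)⟩ : ∃ x : G ⧸ N, x ∈ A ∧ x ≠ 1)
  exact ⟨Additive.ofMul ⟨x, hx⟩, fun h => hx1 (congrArg (fun v : Additive ↥A => ((v.toMul : ↥A) : G ⧸ N)) h)⟩

theorem exists_pmod_fix (hp : p.Prime) (K : Subgroup G) [K.Normal]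
    (hK : IsPGroup p ↥K) {g k : G} (_hg : ¬ p ∣ orderOf g) (hk : k ∈ K) (hk1 : k ≠ 1) (hgk : g * k = k * g) :
    ∃ (V : Type u) (_ : AddCommGroup V) (_ : DistribMulAction (G ⧸ K) V), PMod p G K V ∧
      ∃ v : V, v ≠ 0 ∧ (QuotientGroup.mk' K g) • v = v := by
  -- `N` maximal with `k ∉ N`
  obtain ⟨N, hN⟩ := (Set.toFinite {N : Subgroup G | N.Normal ∧ N ≤ K ∧ k ∉ N}).exists_maximal
    ⟨⊥, inferInstance, bot_le, fun h => hk1 (Subgroup.mem_bot.1 h)⟩
  obtain ⟨hNn, hNK, hkN⟩ := hN.1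
  have hLn : (K.map (QuotientGroup.mk' N)).Normal := Subgroup.Normal.map inferInstance _ (QuotientGroup.mk'_surjective N)
  have hkL : (k : G ⧸ N) ∈ K.map (QuotientGroup.mk' N) := ⟨k, hk, rfl⟩
  have hk1' : (k : G ⧸ N) ≠ 1 := fun h => hkN ((QuotientGroup.eq_one_iff k).1 h)
  -- `A` minimal
  obtain ⟨A, hA⟩ := (Set.toFinite {A : Subgroup (G ⧸ N) | A.Normal ∧ A ≤ K.map (QuotientGroup.mk' N) ∧ A ≠ ⊥}).exists_minimal
    ⟨_, hLn, le_rfl, fun h => hk1' (by rw [h] at hkL; exact Subgroup.mem_bot.1 hkL)⟩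
  obtain ⟨hAn, hAK, hA1⟩ := hA.1
  have hmin : ∀ B : Subgroup (G ⧸ N), B.Normal → B ≤ A → B = ⊥ ∨ B = A := by
    intro B hB hBA
    by_cases h : B = ⊥
    · exact Or.inl h
    · exact Or.inr (le_antisymm hBA (hA.2 ⟨hB, hBA.trans hAK, h⟩ hBA))
  have hkA : (k : G ⧸ N) ∈ A := by
    by_contra hcon
    have hNM : N ≤ A.comap (QuotientGroup.mk' N) := by
      intro x hx
      change (x : G ⧸ N) ∈ A
      rw [(QuotientGroup.eq_one_iff x).2 hx]
      exact A.one_mem
    have hMK : A.comap (QuotientGroup.mk' N) ≤ K := by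
      intro x hx
      obtain ⟨y, hy, hyx⟩ := hAK hx
      have h1 : (y : G ⧸ N) = (x : G ⧸ N) := hyx
      rw [QuotientGroup.eq] at h1
      have h2 := K.mul_mem hy (hNK h1)
      rwa [mul_inv_cancel_left] at h2
    have h1 : A.comap (QuotientGroup.mk' N) ≤ N :=
      hN.2 ⟨hAn.comap _, hMK, hcon⟩ hNM
    apply hA1
    rw [eq_bot_iff]
    intro x hx
    obtain ⟨x, rfl⟩ := QuotientGroup.mk_surjective x
    exact Subgroup.mem_bot.2 ((QuotientGroup.eq_one_iff x).2 (h1 hx))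
  obtain ⟨V, i1, i2, hV, e, he1, he2, he3, he4⟩ := exists_of_chief hp K N hNK hK A hA1 hAK hmin
  obtain ⟨v, hv⟩ := (he2 _).1 hkA
  refine ⟨V, i1, i2, hV, v, ?_, ?_⟩
  · rintro rfl
    exact hk1' (hv.symm.trans he3)
  · apply he1
    have h1 := he4 g v
    rw [hv] at h1 ⊢
    refine h1.trans ?_
    have h2 : (g : G ⧸ N) * (k : G ⧸ N) = (k : G ⧸ N) * (g : G ⧸ N) := congrArg (QuotientGroup.mk' N) hgk
    rw [h2, mul_inv_cancel_right]

theorem exists_pmod (hp : p.Prime) (K : Subgroup G) [K.Normal]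
    (hK : IsPGroup p ↥K) (hne : K ≠ ⊥) :
    ∃ (V : Type u) (_ : AddCommGroup V) (_ : DistribMulAction (G ⧸ K) V), PMod p G K V := by
  obtain ⟨⟨k, hk⟩, hk1⟩ := Subgroup.ne_bot_iff_exists_ne_one.1 hne
  obtain ⟨V, i1, i2, hV, -⟩ := exists_pmod_fix hp K hK (g := 1) (k := k)
    (by rw [orderOf_one]; exact hp.one_lt.ne' ∘ Nat.dvd_one.1) hk (fun h => hk1 (Subtype.ext h)) (by rw [one_mul, mul_one])
  exact ⟨V, i1, i2, hV⟩

end main

end Cfsg.Agent.H679.PModT
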