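import Mathlib
import Cfsg.Agent.H679.OneFix
import Cfsg.Agent.Characters.Linear
import Cfsg.Agent.Characters.Values
import Cfsg.Agent.Blocks.Basic
import Cfsg.Agent.S0145

/-!
# Elements on which few nonlinear irreducible characters do not vanish (helper679)

* `sum_hom_apply`, `sum_linear` : `∑ λ(x)` over the linear characters;
* `cc_of_vanish` : all nonlinear characters vanish at `g`: `g G' = g^G`;
* `one_nonlinear` : only one nonlinear character `χ` does not vanish at `g`.
-/

set_option autoImplicit false

namespace Cfsg.Agent.H679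

open Cfsg Subgroup
open scoped ComplexConjugate

universe u

variable {G : Type u} [Group G]

/-- the sum of the values of the homomorphisms to `ℂˣ` -/
theorem sum_hom_apply [Finite G] [Fintype (G →* ℂˣ)] (x : G) [Decidable (x ∈ commutator G)] :
    ∑ f : G →* ℂˣ, (f x : ℂ) = if x ∈ commutator G then ((commutator G).index : ℂ) else 0 := by
  split_ifs with hx
  · have h1 : ∀ f : G →* ℂˣ, (f x : ℂ) = 1 := by
      intro f
      have h2 : commutator G ≤ f.ker := Abelianization.commutator_subset_ker f
      have h3 : f x = 1 := h2 hx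
      rw [h3, Units.val_one]
    simp only [h1, Finset.sum_const, Finset.card_univ, nsmul_eq_mul, mul_one]
    rw [← Characters.Linear.card_hom_eq_index_commutator, Nat.card_eq_fintype_card]
  · have : Finite (Abelianization G) :=
      Finite.of_surjective (QuotientGroup.mk' (commutator G)) (QuotientGroup.mk'_surjective _)
    have hx1 : Abelianization.of x ≠ 1 := by
      intro h
      exact hx ((QuotientGroup.eq_one_iff x).1 h)
    obtain ⟨φ, hφ⟩ := CommGroup.exists_apply_ne_one_of_hasEnoughRootsOfUnity (Abelianization G) ℂ hx1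
    have hne : (((φ.comp Abelianization.of : G →* ℂˣ) x : ℂˣ) : ℂ) ≠ 1 := by
      rw [MonoidHom.comp_apply]
      intro h
      exact hφ (Units.ext h)
    have h1 : ∑ f : G →* ℂˣ, (f x : ℂ) = ((φ.comp Abelianization.of : G →* ℂˣ) x : ℂ) * ∑ f : G →* ℂˣ, (f x : ℂ) := by
      rw [Finset.mul_sum]
      refine (Fintype.sum_equiv (Equiv.mulLeft (φ.comp Abelianization.of : G →* ℂˣ)) _ _ fun f => ?_).symm
      rw [Equiv.coe_mulLeft, MonoidHom.mul_apply, Units.val_mul]
    have h2 : (((φ.comp Abelianization.of : G →* ℂˣ) x : ℂ) - 1) * ∑ f : G →* ℂˣ, (f x : ℂ) = 0 := by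
      rw [sub_mul, ← h1, one_mul, sub_self]
    exact (mul_eq_zero.1 h2).resolve_left (sub_ne_zero.2 hne)

/-- the sum of the values of the linear characters -/
theorem sum_linear [Finite G] [Fintype (IrrCharacter G)] (x : G) [Decidable (x ∈ commutator G)]
    [DecidablePred fun χ : IrrCharacter G => (χ : G → ℂ) 1 = 1] :
    ∑ χ ∈ Finset.univ.filter (fun χ : IrrCharacter G => (χ : G → ℂ) 1 = 1), (χ : G → ℂ) x =
      if x ∈ commutator G then ((commutator G).index : ℂ) else 0 := by
  classical
  have hfin : Finite (G →* ℂˣ) := Nat.finite_of_card_ne_zero (by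
    rw [Characters.Linear.card_hom_eq_index_commutator]; exact index_ne_zero_of_finite)
  cases nonempty_fintype (G →* ℂˣ)
  rw [← sum_hom_apply x]
  rw [Finset.sum_subtype (p := fun χ : IrrCharacter G => (χ : G → ℂ) 1 = 1) _ (fun χ => by simp)]
  exact (Fintype.sum_equiv (Characters.Linear.linearEquiv G) _ _ fun f => by
    rw [Characters.Linear.linearEquiv_apply]).symm

/-- linear characters are trivial on the commutator subgroup -/
theorem linear_apply_eq_one {χ : G → ℂ} (hχ : IsIrrCharacter G χ) (h1 : χ 1 = 1) {x : G} (hx : x ∈ commutator G) :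
    χ x = 1 := by
  obtain ⟨f, rfl⟩ := Characters.Linear.exists_hom_of_isIrrCharacter hχ h1
  have h2 : commutator G ≤ f.ker := Abelianization.commutator_subset_ker f
  have h3 : f x = 1 := h2 hx
  show (f x : ℂ) = 1
  rw [h3, Units.val_one]

theorem linear_mul_conj [Finite G] {χ : G → ℂ} (hχ : IsIrrCharacter G χ) (h1 : χ 1 = 1) (x : G) :
    χ x * conj (χ x) = 1 := by
  obtain ⟨f, rfl⟩ := Characters.Linear.exists_hom_of_isIrrCharacter hχ h1
  show (f x : ℂ) * conj (f x : ℂ) = 1
  rw [Complex.mul_conj, Complex.normSq_eq_norm_sq, Characters.Linear.norm_hom_apply]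
  norm_num

theorem conj_mul_mem_commutator (y x : G) : x⁻¹ * (y * x * y⁻¹) ∈ commutator G := by
  have h := Subgroup.commutator_mem_commutator (H₁ := (⊤ : Subgroup G)) (H₂ := ⊤) (mem_top x⁻¹) (mem_top y)
  rw [commutatorElement_def, inv_inv] at h
  rw [_root_.commutator_def]
  convert h using 1
  group

/-- **If all nonlinear irreducible characters vanish at `g`, then `g^G = g G'`.** -/
theorem cc_of_vanish [Finite G] (g : G) (hg : ∀ χ : IrrCharacter G, (χ : G → ℂ) 1 ≠ 1 → (χ : G → ℂ) g = 0) :
    CC (commutator G) g := by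
  classical
  cases nonempty_fintype G
  have : Finite (IrrCharacter G) := Characters.Core.finite_irr
  cases nonempty_fintype (IrrCharacter G)
  have h1 := S0145.sum_irr_mul_conj g g
  rw [if_pos (IsConj.refl g)] at h1
  have h2 : ∑ χ : IrrCharacter G, (χ : G → ℂ) g * conj ((χ : G → ℂ) g) =
      ∑ χ ∈ Finset.univ.filter (fun χ : IrrCharacter G => (χ : G → ℂ) 1 = 1), (χ : G → ℂ) 1 := by
    rw [Finset.sum_filter]
    refine Finset.sum_congr rfl fun χ _ => ?_
    split_ifs with h
    · rw [linear_mul_conj χ.2 h, h]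
    · rw [hg χ h, zero_mul]
  rw [h2, sum_linear, if_pos (one_mem _)] at h1
  have h3 : (commutator G).index = Nat.card (centralizer ({g} : Set G)) := by exact_mod_cast h1
  have h4 := S0145.card_centralizer_mul_card_class g
  rw [← h3] at h4
  have h5 := (commutator G).card_mul_index
  have hpos : 0 < (commutator G).index := Nat.pos_of_ne_zero index_ne_zero_of_finite
  have h6 : (Finset.univ.filter (fun x : G => IsConj x g)).card = Nat.card (commutator G) := by
    apply Nat.eq_of_mul_eq_mul_left hpos
    rw [h4, ← h5, mul_comm]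
  -- the class is contained in the coset
  have h7 : Finset.univ.filter (fun x : G => IsConj x g) ⊆ Finset.univ.filter (fun x : G => g⁻¹ * x ∈ commutator G) := by
    intro x hx
    rw [Finset.mem_filter] at hx ⊢
    refine ⟨Finset.mem_univ _, ?_⟩
    obtain ⟨y, rfl⟩ := isConj_iff.1 hx.2.symm
    exact conj_mul_mem_commutator y g
  have h8 : (Finset.univ.filter (fun x : G => g⁻¹ * x ∈ commutator G)).card = Nat.card (commutator G) := by
    rw [← Fintype.card_subtype, ← Nat.card_eq_fintype_card]
    exact Nat.card_congr ((Equiv.mulLeft g⁻¹).subtypeEquiv fun x => Iff.rfl)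
  have h9 := Finset.eq_of_subset_of_card_le h7 (by rw [h6, h8])
  intro n hn
  have h10 : g * n ∈ Finset.univ.filter (fun x : G => g⁻¹ * x ∈ commutator G) := by
    rw [Finset.mem_filter]
    exact ⟨Finset.mem_univ _, by rwa [inv_mul_cancel_left]⟩
  rw [← h9, Finset.mem_filter] at h10
  obtain ⟨y, hy⟩ := isConj_iff.1 h10.2.symm
  exact ⟨y, hy⟩

end Cfsg.Agent.H679
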