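import Cfsg.Agent.H465.SpArith
import Cfsg.Agent.H478.SporHe
import Cfsg.Agent.CpAutHe.Seven
import Cfsg.Agent.KFacts.He.Hyp
import Cfsg.Agent.SporadicRecognition.HeldFusion
import Cfsg.Agent.NotCT.Orders

/-!
# A solvably unique element of order 17 in the Held group (helper679)

`he : Spor.IsoHe G → HasSU1 G`.  An element of order 17 is self-centralising (representation of degree 2058), and there
is no elementary abelian subgroup of order 256: those of order 64 of a Sylow 2-subgroup are `V1`, `V2`.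
-/

set_option autoImplicit false

namespace Cfsg.Agent.H679.SpHe

open Cfsg Subgroup Cfsg.Agent.H465.SU
open Cfsg.Spor Cfsg.Spor.He Cfsg.Agent.SporadicB.HePerm Cfsg.Agent.FixBN.HeStab
open Cfsg.Agent.KFacts.He.Lv Cfsg.Agent.CpAutHe.Cnt Cfsg.Agent.CpAutHe.Bound Cfsg.Agent.H478.SporHe

/-! ### The centraliser of an element of order 17 -/

theorem c19 : cnt 2058 (tst w17 [1544] [1] 19) = 17 := by decide +kernel

/-- the points fixed by the second stabiliser -/
def F1 : List ℕ := nx w17 [1544] 19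

set_option maxRecDepth 100000 in
theorem d0 : cnt 2058 (tst w17 F1 [1, 2] 0) = 1 := by decide +kernel
set_option maxRecDepth 100000 in
theorem d1 : cnt 2058 (tst w17 F1 [1, 2, 3] 1) = 1 := by decide +kernel
set_option maxRecDepth 100000 in
theorem d32 : cnt 2058 (tst w17 F1 [1, 2] 32) = 1 := by decide +kernel
set_option maxRecDepth 100000 in
theorem d8 : cnt 2058 (tst w17 F1 [1] 8) = 1 := by decide +kernel

theorem fx1544 {c : Cfsg.Spor.He} (hc : c * wd w17 = wd w17 * c) : Fx c 1544 := by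
  refine ⟨by norm_num, ?_⟩
  apply fix_of
  rw [← Equiv.Perm.mul_apply, ← map_mul, ← hc, map_mul, Equiv.Perm.mul_apply, fixed]

theorem card_cent : Nat.card ↥(centralizer ({wd w17} : Set Cfsg.Spor.He)) ≤ 17 := by
  have hC : ∀ c ∈ centralizer ({wd w17} : Set Cfsg.Spor.He), c * wd w17 = wd w17 * c := fun c hc =>
    mem_centralizer_singleton_iff.1 hc
  have hF : ∀ c ∈ centralizer ({wd w17} : Set Cfsg.Spor.He), ∀ f ∈ [1544], Fx c f := by
    intro c hc f hf
    rw [List.mem_singleton.1 hf]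
    exact fx1544 (hC c hc)
  have hC1 : ∀ c ∈ st (centralizer ({wd w17} : Set Cfsg.Spor.He)) 19, c * wd w17 = wd w17 * c := fun c hc =>
    hC c (mem_st.1 hc).1
  have hF1 : ∀ c ∈ st (centralizer ({wd w17} : Set Cfsg.Spor.He)) 19, ∀ f ∈ F1, Fx c f := fun c hc =>
    fx_nx (p := 19) (hC1 c hc) (hF c (mem_st.1 hc).1) (mem_st.1 hc).2
  have h1 : Nat.card ↥(st (centralizer ({wd w17} : Set Cfsg.Spor.He)) 19) ≤ 1 := by
    rw [Subgroup.card_le_one_iff_eq_bot, eq_bot_iff_forall]
    intro c hc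
    have k := fix_of_one (hC1 c hc) (hF1 c hc)
    have e0 : phi c 0 = 0 := k 0 F1 [1, 2] (fun _ h => h) d0
    have e1 : phi c 1 = 1 := k 1 F1 [1, 2, 3] (fun _ h => h) d1
    have e2 : phi c 32 = 32 := k 32 F1 [1, 2] (fun _ h => h) d32
    have e3 : phi c 8 = 8 := k 8 F1 [1] (fun _ h => h) d8
    have e : ∀ i, phi (1 : Cfsg.Spor.He) i = i := fun i => by rw [map_one]; rfl
    apply eq_of_base
    · rw [e0, e]
    · rw [e1, e]
    · rw [e2, e]
    · rw [e3, e]
  exact step (F := [1544]) hC hF 19 [1544] [1] (fun _ h => h) c19 h1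

theorem card_cent_of {y : Cfsg.Spor.He} (hy : orderOf y = 17) :
    Nat.card ↥(centralizer ({y} : Set Cfsg.Spor.He)) ≤ 17 := by
  have : Finite Cfsg.Spor.He := Nat.finite_of_card_ne_zero (by rw [card_he]; norm_num)
  have : Fact (Nat.Prime 17) := ⟨by norm_num⟩
  obtain ⟨g, hg⟩ := CpAutON.Gen.conj_into (p := 17) (by rw [card_he]; norm_num) hy orderOf_w17
  exact (Cfsg.Agent.CpAutHe.Seven.card_cent_le hy orderOf_w17 hg).trans card_cent

theorem no_comm {x y : Cfsg.Spor.He} (hy : orderOf y = 17) (hx : (orderOf x).Prime) (hx17 : orderOf x ≠ 17)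
    (hc : y * x = x * y) : False := by
  have : Finite Cfsg.Spor.He := Nat.finite_of_card_ne_zero (by rw [card_he]; norm_num)
  have h1 := card_cent_of hy
  have h2 : orderOf y ∣ Nat.card ↥(centralizer ({y} : Set Cfsg.Spor.He)) :=
    Subgroup.orderOf_dvd_natCard _ (mem_centralizer_singleton_iff.2 rfl)
  have h3 : orderOf x ∣ Nat.card ↥(centralizer ({y} : Set Cfsg.Spor.He)) :=
    Subgroup.orderOf_dvd_natCard _ (mem_centralizer_singleton_iff.2 hc.symm)
  have hpos : 0 < Nat.card ↥(centralizer ({y} : Set Cfsg.Spor.He)) := Nat.card_pos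
  have h4 : orderOf y * orderOf x ∣ Nat.card ↥(centralizer ({y} : Set Cfsg.Spor.He)) :=
    Nat.Coprime.mul_dvd_of_dvd_of_dvd
      (by rw [hy]; exact (Nat.coprime_primes (by norm_num) hx).2 (Ne.symm hx17)) h2 h3
  have h5 := Nat.le_of_dvd hpos h4
  have h6 := hx.two_le
  rw [hy] at h5
  omega

/-! ### No elementary abelian subgroup of order 256 -/

section

open Cfsg.Agent.SporadicRecognition.HeldModel

variable {G : Type*} [Group G] {z : G} {ι : CC →* G}

/-- the preimage in the model -/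
def pre (ι : CC →* G) (K : Subgroup G) : Subgroup L5 := (K.comap ι).map CC.subtype

theorem mem_pre {K : Subgroup G} {u : CC} : (u : L5) ∈ pre ι K ↔ ι u ∈ K := by
  constructor
  · rintro ⟨v, hv, hvu⟩
    have : v = u := Subtype.ext hvu
    rw [← this]
    exact hv
  · intro h
    exact ⟨u, h, rfl⟩

theorem card_pre (h : SporadicRecognition.HeldModel.Hyp z ι) {K : Subgroup G} (hK : K ≤ ι.range) :
    Nat.card (pre ι K) = Nat.card K := by
  rw [pre, Subgroup.card_map_of_injective CC.subtype_injective]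
  have h1 : (K.comap ι).map ι = K := Subgroup.map_comap_eq_self hK
  conv_rhs => rw [← h1]
  exact (Subgroup.card_map_of_injective h.inj).symm

/-- elements of elementary abelian subgroups of order at least 64 -/
theorem mem_V (h : SporadicRecognition.HeldModel.Hyp z ι) {E : Subgroup G} [Finite G] (hE : E ≤ img ι T0)
    (hE2 : ∀ a ∈ E, a ^ 2 = 1) (h64 : 64 ∣ Nat.card E) {u : CC} (hu : ι u ∈ E) : (u : L5) ∈ V1 ∨ (u : L5) ∈ V2 := by
  have : Fact (Nat.Prime 2) := ⟨Nat.prime_two⟩
  -- a subgroup of order 64 containing `ι u`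
  have hp : IsPGroup 2 E := fun a => ⟨1, by rw [pow_one]; exact Subtype.ext (hE2 a a.2)⟩
  have hz : IsPGroup 2 (zpowers (⟨ι u, hu⟩ : E)) := hp.to_subgroup _
  obtain ⟨n, hn⟩ := IsPGroup.iff_card.1 hz
  have hn1 : n ≤ 1 := by
    rw [Nat.card_zpowers] at hn
    have h2 : orderOf (⟨ι u, hu⟩ : E) ∣ 2 := orderOf_dvd_of_pow_eq_one (Subtype.ext (hE2 _ hu))
    rw [hn] at h2
    by_contra h3
    have h4 : 2 ^ 2 ∣ 2 ^ n := pow_dvd_pow 2 (by omega)
    exact absurd (h4.trans h2) (by norm_num)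
  obtain ⟨K, hK, hle⟩ := Sylow.exists_subgroup_card_pow_prime_le 2 (n := n) (m := 6)
    (by norm_num; exact h64) (zpowers (⟨ι u, hu⟩ : E)) hn (by omega)
  have huK : ι u ∈ K.map E.subtype := ⟨⟨ι u, hu⟩, hle (mem_zpowers _), rfl⟩
  have hKE : K.map E.subtype ≤ E := Subgroup.map_subtype_le K
  have hKr : K.map E.subtype ≤ ι.range := by
    intro g hg
    obtain ⟨w, -, hw⟩ := mem_img.1 (hE (hKE hg))
    exact ⟨w, hw⟩
  refine mem_of_cnt (A := pre ι (K.map E.subtype)) ?_ ?_ ?_ (mem_pre.2 huK)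
  · rintro _ ⟨w, hw, rfl⟩
    exact (ι_mem_img h).1 (hE (hKE hw))
  · rintro _ ⟨w, hw, rfl⟩
    have h1 : ι (w * w) = ι 1 := by
      rw [map_mul, ← pow_two, hE2 _ (hKE hw), map_one]
    have h2 := h.inj h1
    exact congrArg Subtype.val h2
  · rw [card_pre h hKr, Subgroup.card_map_of_injective E.subtype_injective, hK]
    norm_num

theorem card_lt (h : SporadicRecognition.HeldModel.Hyp z ι) {E : Subgroup G} [Finite G] (hE : E ≤ img ι T0)
    (hE2 : ∀ a ∈ E, a ^ 2 = 1) (h256 : Nat.card E = 256) : False := by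
  classical
  have hr : E ≤ ι.range := by
    intro g hg
    obtain ⟨w, -, hw⟩ := mem_img.1 (hE hg)
    exact ⟨w, hw⟩
  have h1 : Nat.card (pre ι E) = 256 := by rw [card_pre h hr, h256]
  have h2 : ∀ a : pre ι E, (a : L5) ∈ V1 ∨ (a : L5) ∈ V2 := by
    rintro ⟨_, w, hw, rfl⟩
    exact mem_V h hE hE2 (by rw [h256]; norm_num) hw
  have h3 : Nat.card (pre ι E) ≤ Nat.card (V1 ⊕ V2) := by
    refine Nat.card_le_card_of_injective
      (fun a => if ha : (a : L5) ∈ V1 then Sum.inl ⟨a, ha⟩ else Sum.inr ⟨a, (h2 a).resolve_left ha⟩) ?_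
    intro a b hab
    by_cases ha : (a : L5) ∈ V1 <;> by_cases hb : (b : L5) ∈ V1 <;>
      simp only [ha, hb, dif_pos, dif_neg, not_false_eq_true] at hab
    · have h4 := Sum.inl.inj hab
      exact Subtype.ext (Subtype.mk.inj h4)
    · exact absurd hab (by simp)
    · exact absurd hab (by simp)
    · have h4 := Sum.inr.inj hab
      exact Subtype.ext (Subtype.mk.inj h4)
  rw [h1, Nat.card_sum, card_V1, card_V2] at h3
  omega

/-- there is no elementary abelian subgroup of order 256 -/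
theorem no_E (h : SporadicRecognition.HeldModel.Hyp z ι) [Finite G] {E : Subgroup G}
    (hE2 : ∀ a ∈ E, a ^ 2 = 1) (h256 : Nat.card E = 256) : False := by
  have : Fact (Nat.Prime 2) := ⟨Nat.prime_two⟩
  obtain ⟨P, hP⟩ := exists_sylow h
  have hp : IsPGroup 2 E := fun a => ⟨1, by rw [pow_one]; exact Subtype.ext (hE2 a a.2)⟩
  obtain ⟨S, hS⟩ := hp.exists_le_sylow
  obtain ⟨g, hg⟩ := MulAction.exists_smul_eq G S P
  have hle : E.map (MulAut.conj g).toMonoidHom ≤ img ι T0 := by
    have h1 : (img ι T0 : Subgroup G) = (P : Subgroup G) := hP.symm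
    rw [h1, ← hg, Sylow.coe_subgroup_smul]
    rintro _ ⟨a, ha, rfl⟩
    exact ⟨a, hS ha, rfl⟩
  refine card_lt h hle ?_ ?_
  · rintro _ ⟨a, ha, rfl⟩
    rw [← map_pow, hE2 a ha, map_one]
  · rw [Subgroup.card_map_of_injective (MulAut.conj g).injective, h256]

end

theorem he {G : Type*} [Group G] [Finite G] (h : Spor.IsoHe G) : HasSU1 G := by
  have hN := NotCT.Orders.he h
  obtain ⟨e⟩ := h
  have : Finite Cfsg.Spor.He := Finite.of_equiv _ e.toEquiv
  have : Fact (Nat.Prime 17) := ⟨by norm_num⟩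
  obtain ⟨y, hy⟩ := exists_prime_orderOf_dvd_card' (G := G) 17 (by rw [hN]; norm_num)
  have h1 : ¬ 17 ^ 2 ∣ Nat.card G := by rw [hN]; norm_num
  refine ⟨17, y, by norm_num, by norm_num, hy, h1, SUel.of_elem (by norm_num) h1 hy ?_ ?_⟩
  · intro w hw hw17 hc
    refine no_comm (x := e w) (y := e y) (by rw [MulEquiv.orderOf_eq, hy]) (by rwa [MulEquiv.orderOf_eq])
      (by rwa [MulEquiv.orderOf_eq]) ?_
    rw [← map_mul, hc, map_mul]
  · intro s k E hs hs17 hk hcard hdvd hp hE2 hE hyE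
    have hsk : s = 2 ∧ k = 8 := by
      have hsd : s ∣ 4030387200 := by
        rw [← hN]
        exact (dvd_pow_self s hk.ne').trans hdvd
      have h2357 : s = 2 ∨ s = 3 ∨ s = 5 ∨ s = 7 := by
        have h2 : s ∣ 2 ^ 10 * 3 ^ 3 * 5 ^ 2 * 7 ^ 3 * 17 := by
          have : (2 ^ 10 * 3 ^ 3 * 5 ^ 2 * 7 ^ 3 * 17 : ℕ) = 4030387200 := by norm_num
          rw [this]; exact hsd
        rcases (Nat.Prime.dvd_mul hs).1 h2 with h2 | h2
        · rcases (Nat.Prime.dvd_mul hs).1 h2 with h2 | h2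
          · rcases (Nat.Prime.dvd_mul hs).1 h2 with h2 | h2
            · rcases (Nat.Prime.dvd_mul hs).1 h2 with h2 | h2
              · exact Or.inl ((Nat.prime_dvd_prime_iff_eq hs Nat.prime_two).1 (hs.dvd_of_dvd_pow h2))
              · exact Or.inr (Or.inl ((Nat.prime_dvd_prime_iff_eq hs Nat.prime_three).1 (hs.dvd_of_dvd_pow h2)))
            · exact Or.inr (Or.inr (Or.inl ((Nat.prime_dvd_prime_iff_eq hs Nat.prime_five).1 (hs.dvd_of_dvd_pow h2))))
          · exact Or.inr (Or.inr (Or.inr ((Nat.prime_dvd_prime_iff_eq hs (by norm_num)).1 (hs.dvd_of_dvd_pow h2))))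
        · exact absurd ((Nat.prime_dvd_prime_iff_eq hs (by norm_num)).1 h2) hs17
      rw [hN] at hdvd
      rcases h2357 with rfl | rfl | rfl | rfl
      · refine ⟨rfl, ?_⟩
        have hk3 : k ≤ 10 := by
          by_contra hk3
          have h4 : (2 : ℕ) ^ 11 ∣ 4030387200 := (pow_dvd_pow 2 (by omega)).trans hdvd
          revert h4; norm_num
        interval_cases k <;> first | rfl | (exfalso; revert hp; norm_num)
      · exfalso
        have hk3 : k ≤ 3 := by
          by_contra hk3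
          have h4 : (3 : ℕ) ^ 4 ∣ 4030387200 := (pow_dvd_pow 3 (by omega)).trans hdvd
          revert h4; norm_num
        interval_cases k <;> (revert hp; norm_num)
      · exfalso
        have hk3 : k ≤ 2 := by
          by_contra hk3
          have h4 : (5 : ℕ) ^ 3 ∣ 4030387200 := (pow_dvd_pow 5 (by omega)).trans hdvd
          revert h4; norm_num
        interval_cases k <;> (revert hp; norm_num)
      · exfalso
        have hk3 : k ≤ 3 := by
          by_contra hk3
          have h4 : (7 : ℕ) ^ 4 ∣ 4030387200 := (pow_dvd_pow 7 (by omega)).trans hdvd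
          revert h4; norm_num
        interval_cases k <;> (revert hp; norm_num)
    obtain ⟨rfl, rfl⟩ := hsk
    refine no_E KFacts.He.Hyp.hyp (E := E.map e.toMonoidHom) ?_ ?_
    · rintro _ ⟨a, ha, rfl⟩
      show (e a) ^ 2 = 1
      rw [← map_pow, hE2 a ha, map_one]
    · rw [Subgroup.card_map_of_injective e.injective, hcard]
      norm_num

end Cfsg.Agent.H679.SpHe
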