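import Cfsg.Agent.H504.TwoRows
import Cfsg.Agent.H679.TwoPsl

/-!
# Row `PSL_n`, `n ≥ 4`, of S4897 (helper679)
-/

set_option autoImplicit false

namespace Cfsg.Agent.H679.TwoPsl

theorem rowT_psl {F : Type} [Field F] [Fintype F] {n : ℕ} (hn : 4 ≤ n) (_hc : n = 4 → 3 ≤ Fintype.card F) :
    Cfsg.Agent.H504.TwoZ.RowT (Matrix.ProjectiveSpecialLinearGroup (Fin n) F) :=
  ⟨row1_psl hn, row2_psl hn⟩

end Cfsg.Agent.H679.TwoPsl
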