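import Mathlib

/-!
# The centralizer of an irreducible element is cyclic (helper679, task 29)

`isCyclic_centralizer_of_irreducible` : Schur and Wedderburn.
-/

set_option autoImplicit false

namespace Cfsg.Agent.H679

/-- Schur + Wedderburn: the centralizer of an element acting irreducibly is cyclic. -/
theorem isCyclic_centralizer_of_irreducible {G W : Type*} [Group G] [Finite G] [AddCommGroup W] [Finite W]
    [DistribMulAction G W] (hfaith : ∀ g : G, (∀ w : W, g • w = w) → g = 1) (hne : ∃ w : W, w ≠ 0) (y : G)
    (hirr : ∀ U : AddSubgroup W, (∀ u ∈ U, y • u ∈ U) → U = ⊥ ∨ U = ⊤) :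
    IsCyclic (Subgroup.centralizer ({y} : Set G)) := by
  let D : Subring (AddMonoid.End W) := Subring.centralizer {DistribMulAction.toAddMonoidEnd G W y}
  have hD : ∀ d : D, ∀ w : W, (d : AddMonoid.End W) (y • w) = y • (d : AddMonoid.End W) w := by
    rintro ⟨d, hd⟩ w
    have h := hd _ (Set.mem_singleton _)
    have h2 := DFunLike.congr_fun h w
    exact h2.symm
  have hinj : ∀ d : D, d ≠ 0 → Function.Injective (d : AddMonoid.End W) := by
    intro d hd
    rcases hirr (AddMonoidHom.ker (d : W →+ W)) (fun u hu => by
      have hu' : (d : AddMonoid.End W) u = 0 := hu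
      show (d : AddMonoid.End W) (y • u) = 0
      rw [hD d u, hu', smul_zero]) with h | h
    · exact (AddMonoidHom.ker_eq_bot_iff (d : W →+ W)).1 h
    · exfalso
      apply hd
      apply Subtype.ext
      ext w
      have h1 : w ∈ AddMonoidHom.ker (d : W →+ W) := by rw [h]; trivial
      exact h1
  have hfinE : Finite (AddMonoid.End W) :=
    Finite.of_injective (fun f : AddMonoid.End W => (f : W → W)) DFunLike.coe_injective
  have hfin : Finite D := inferInstance
  obtain ⟨w₀, hw₀⟩ := hne
  have hnt : Nontrivial D := by
    refine ⟨⟨1, 0, fun h => hw₀ ?_⟩⟩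
    have h1 : ((1 : D) : AddMonoid.End W) w₀ = ((0 : D) : AddMonoid.End W) w₀ := by rw [h]
    exact h1
  have hnz : NoZeroDivisors D := by
    refine ⟨fun {a b} hab => ?_⟩
    by_cases ha : a = 0
    · exact Or.inl ha
    · right
      apply Subtype.ext
      ext w
      have h1 : ((a * b : D) : AddMonoid.End W) w = 0 := by rw [hab]; rfl
      have h2 : (a : AddMonoid.End W) ((b : AddMonoid.End W) w) = (a : AddMonoid.End W) 0 := by
        rw [map_zero]
        exact h1
      exact hinj a ha h2
  have hdom : IsDomain D := NoZeroDivisors.to_isDomain D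
  have hF : IsField D := Finite.isDomain_to_isField D
  let _ : CommRing D := { (inferInstance : Ring D) with mul_comm := hF.mul_comm }
  let f : Subgroup.centralizer ({y} : Set G) →* D :=
    { toFun := fun c => ⟨DistribMulAction.toAddMonoidEnd G W (c : G), by
        rw [Subring.mem_centralizer_iff]
        rintro _ rfl
        rw [← map_mul, ← map_mul, Subgroup.mem_centralizer_singleton_iff.1 c.2]⟩
      map_one' := Subtype.ext (map_one (DistribMulAction.toAddMonoidEnd G W))
      map_mul' := fun a b => Subtype.ext (map_mul (DistribMulAction.toAddMonoidEnd G W) (a : G) (b : G)) }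
  refine isCyclic_of_injective_ringHom f fun a b hab => ?_
  have h1 : DistribMulAction.toAddMonoidEnd G W (a : G) = DistribMulAction.toAddMonoidEnd G W (b : G) :=
    congrArg Subtype.val hab
  apply Subtype.ext
  rw [← inv_mul_eq_one]
  refine (hfaith _ fun w => ?_)
  have h2 : (a : G) • w = (b : G) • w := DFunLike.congr_fun h1 w
  rw [mul_smul, ← h2, inv_smul_smul]

end Cfsg.Agent.H679
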