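import Mathlib

/-!
# The centralizer of a subfield of `M_n(F)` (helper679, for S3694)

* `exists_phi` : for a field `L` in `M_n(F)` the centralizer is a matrix algebra over `L`;
* `exists_phi_centralizer` : the same for a commutative subalgebra closed under inverses.
-/

set_option autoImplicit false

namespace Cfsg.Agent.H679.CentField

open Matrix

section

variable {F : Type} [Field F] {n : ℕ}

theorem exists_phi {L : Type} [Field L] [Algebra F L] (ι : L →ₐ[F] Matrix (Fin n) (Fin n) F) :
    ∃ (w : ℕ) (φ : Matrix (Fin w) (Fin w) L →ₙ+* Matrix (Fin n) (Fin n) F),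
      w * Module.finrank F L = n ∧ Function.Injective φ ∧ φ 1 = 1 ∧
      (∀ x, (∃ m, φ m = x) ↔ ∀ l : L, x * ι l = ι l * x) ∧ (∀ c : L, φ (Matrix.scalar (Fin w) c) = ι c) := by
  classical
  let f : L →+* Module.End F (Fin n → F) := ((Matrix.toLinAlgEquiv' : Matrix (Fin n) (Fin n) F ≃ₐ[F] _) :
    Matrix (Fin n) (Fin n) F →+* Module.End F (Fin n → F)).comp (ι : L →+* Matrix (Fin n) (Fin n) F)
  have hf : ∀ (l : L) (v : Fin n → F), f l v = ι l *ᵥ v := fun l v => rfl
  let _ : Module L (Fin n → F) := Module.compHom (Fin n → F) f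
  have hs : ∀ (l : L) (v : Fin n → F), l • v = ι l *ᵥ v := fun l v => rfl
  have htower : IsScalarTower F L (Fin n → F) := by
    refine ⟨fun r l v => ?_⟩
    rw [hs, hs, map_smul, smul_mulVec]
  have hfin : Module.Finite L (Fin n → F) := Module.Finite.of_restrictScalars_finite F L (Fin n → F)
  have hfinL : Module.finrank F L * Module.finrank L (Fin n → F) = n := by
    rw [Module.finrank_mul_finrank, Module.finrank_fin_fun]
  let b : Module.Basis (Fin (Module.finrank L (Fin n → F))) L (Fin n → F) := Module.finBasis L (Fin n → F)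
  let φ : Matrix (Fin (Module.finrank L (Fin n → F))) (Fin (Module.finrank L (Fin n → F))) L →ₙ+*
      Matrix (Fin n) (Fin n) F :=
    { toFun := fun m => LinearMap.toMatrix' ((Matrix.toLin b b m).restrictScalars F)
      map_mul' := by
        intro x y
        rw [Matrix.toLin_mul b b b, ← LinearMap.toMatrix'_comp]
        rfl
      map_zero' := by
        rw [map_zero, LinearMap.restrictScalars_zero, map_zero]
      map_add' := by
        intro x y
        rw [map_add, LinearMap.restrictScalars_add, map_add] }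
  have hφ : ∀ m, φ m = LinearMap.toMatrix' ((Matrix.toLin b b m).restrictScalars F) := fun m => rfl
  have hφv : ∀ m (v : Fin n → F), φ m *ᵥ v = Matrix.toLin b b m v := by
    intro m v
    rw [hφ, ← Matrix.toLin'_apply, Matrix.toLin'_toMatrix']
    rfl
  have hext : ∀ {x y : Matrix (Fin n) (Fin n) F}, (∀ v, x *ᵥ v = y *ᵥ v) → x = y := by
    intro x y h
    apply Matrix.toLin'.injective
    refine LinearMap.ext fun v => ?_
    rw [Matrix.toLin'_apply, Matrix.toLin'_apply, h v]
  refine ⟨Module.finrank L (Fin n → F), φ, by rw [mul_comm]; exact hfinL, ?_, ?_, ?_, ?_⟩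
  · intro x y h
    apply (Matrix.toLin b b).injective
    refine LinearMap.ext fun v => ?_
    rw [← hφv, ← hφv, h]
  · apply hext
    intro v
    rw [hφv, Matrix.toLin_one, one_mulVec]
    rfl
  · intro x
    constructor
    · rintro ⟨m, rfl⟩ l
      apply hext
      intro v
      rw [← mulVec_mulVec, ← mulVec_mulVec, hφv, hφv, ← hs, ← hs, map_smul]
    · intro h
      let g : (Fin n → F) →ₗ[L] (Fin n → F) :=
        { toFun := fun v => x *ᵥ v
          map_add' := fun v w => mulVec_add x v w
          map_smul' := fun l v => by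
            rw [hs, RingHom.id_apply, hs, mulVec_mulVec, mulVec_mulVec, h] }
      refine ⟨LinearMap.toMatrix b b g, ?_⟩
      apply hext
      intro v
      rw [hφv, Matrix.toLin_toMatrix]
      rfl
  · intro c
    apply hext
    intro v
    rw [hφv, ← hs]
    have h1 : Matrix.scalar (Fin (Module.finrank L (Fin n → F))) c = c • (1 : Matrix _ _ L) := by
      rw [scalar_apply, smul_one_eq_diagonal]
    rw [h1, map_smul, Matrix.toLin_one]
    rfl

/-- T12a : the centralizer of a subfield of `M_n(F)` is a matrix algebra over it. -/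
theorem exists_phi_centralizer (hn : 0 < n) (B : Subalgebra F (Matrix (Fin n) (Fin n) F))
    (hcomm : ∀ x ∈ B, ∀ y ∈ B, x * y = y * x) (hinv : ∀ x ∈ B, x ≠ 0 → ∃ y ∈ B, x * y = 1) :
    ∃ (L : Type) (_ : Field L) (w : ℕ) (φ : Matrix (Fin w) (Fin w) L →ₙ+* Matrix (Fin n) (Fin n) F),
      Nat.card L = Nat.card ↥B ∧ w * Module.finrank F ↥B = n ∧ Function.Injective φ ∧ φ 1 = 1 ∧
      (∀ x, (∃ m, φ m = x) ↔ ∀ y ∈ B, x * y = y * x) ∧ (∀ c : L, φ (Matrix.scalar (Fin w) c) ∈ B) := by
  have : Nonempty (Fin n) := ⟨⟨0, hn⟩⟩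
  have hfield : IsField ↥B :=
    { exists_pair_ne := ⟨0, 1, zero_ne_one⟩
      mul_comm := fun x y => Subtype.ext (hcomm x x.2 y y.2)
      mul_inv_cancel := fun {x} hx => by
        obtain ⟨y, hy, h⟩ := hinv x x.2 (fun h => hx (Subtype.ext h))
        exact ⟨⟨y, hy⟩, Subtype.ext h⟩ }
  let _ : Field ↥B := hfield.toField
  obtain ⟨w, φ, h1, h2, h3, h4, h5⟩ := exists_phi (L := ↥B) B.val
  refine ⟨↥B, inferInstance, w, φ, rfl, h1, h2, h3, ?_, ?_⟩
  · intro x
    rw [h4]
    exact ⟨fun h y hy => h ⟨y, hy⟩, fun h l => h l l.2⟩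
  · intro c
    rw [h5]
    exact c.2

end

end Cfsg.Agent.H679.CentField
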