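import Cfsg.Agent.H465.SpArith
import Cfsg.Agent.KFacts.J2.Basic
import Cfsg.Agent.H379.J2Orders
import Cfsg.Agent.NotCT.Orders

/-!
# A solvably unique element of order 7 in the Hall–Janko group (helper679)

`j2 : Spor.IsoJ2 G → HasSU1 G`.  A 2-subgroup `E ≥ 8`, elementary abelian, normalised by `y` of order 7: if `E`
contains a conjugate `t` of the 2-central class, the conjugates of `t` under `y` are seven commuting involutions
in `O₂(C(t)) = 2^{1+4}`; otherwise `E` embeds in `C(t) / O₂(C(t)) ≅ A₅`.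
-/

set_option autoImplicit false

namespace Cfsg.Agent.H679.SpJ2

open Cfsg Subgroup Cfsg.Agent.KFacts.J2.Basic Cfsg.Agent.J2Type.Model Cfsg.Agent.J2Type.CStruct
  Cfsg.Agent.J3Type.OneClass Cfsg.Agent.KFacts.QMinus Cfsg.Agent.H465.SU

variable {X : Type*} [Group X] {t u : X} {Q : Subgroup (centralizer ({t} : Set X))}
  {v : Fin 5 → centralizer ({t} : Set X)} {ρ : centralizer ({t} : Set X) →* SP}

/-- powers of `y` do not commute with `t` -/
theorem not_comm_pow {y : X} (hy : y ^ 7 = 1) (hyt : y * t ≠ t * y) {k m : ℕ} (hkm : k * m % 7 = 1) :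
    y ^ k * t ≠ t * y ^ k := by
  intro h
  apply hyt
  have h1 : Commute (y ^ k) t := h
  have h2 := h1.pow_left m
  rw [← pow_mul] at h2
  have h3 : y ^ (k * m) = y := by
    have h4 : k * m = 7 * (k * m / 7) + 1 := by omega
    rw [h4, pow_add, pow_mul, hy, one_pow, one_mul, pow_one]
  rw [h3] at h2
  exact h2

theorem caseA (D : Dat t u Q v ρ) {y : X} (hy : y ^ 7 = 1) (hyt : y * t ≠ t * y) {E : Subgroup X}
    (hE : ∀ a ∈ E, ∀ b ∈ E, a * b = b * a) (hyE : ∀ a ∈ E, y * a * y⁻¹ ∈ E) (ht : t ∈ E) : False := by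
  -- the conjugates of `t`
  have hmem : ∀ i : ℕ, y ^ i * t * (y ^ i)⁻¹ ∈ E := by
    intro i
    induction i with
    | zero => simpa using ht
    | succ i ih =>
      have h1 := hyE _ ih
      have h2 : y * (y ^ i * t * (y ^ i)⁻¹) * y⁻¹ = y ^ (i + 1) * t * (y ^ (i + 1))⁻¹ := by
        rw [pow_succ']; group
      rwa [h2] at h1
  have key : ∀ i m : ℕ, i * m % 7 = 1 → ∃ (a : ZMod 2) (j : Fin 5),
      y ^ i * t * (y ^ i)⁻¹ = ((zp (zc t) a * v j : centralizer ({t} : Set X)) : X) := by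
    intro i m hm
    have h1 : y ^ i * t * (y ^ i)⁻¹ ∈ centralizer ({t} : Set X) :=
      mem_centralizer_singleton_iff.2 (hE _ (hmem i) _ ht)
    have h2 : (⟨_, h1⟩ : centralizer ({t} : Set X)) ∈ Q := D.mem_Q_of_isConj (isConj_iff.2 ⟨y ^ i, rfl⟩)
    have h3 : (⟨_, h1⟩ : centralizer ({t} : Set X)) * ⟨_, h1⟩ = 1 := by
      apply Subtype.ext
      show y ^ i * t * (y ^ i)⁻¹ * (y ^ i * t * (y ^ i)⁻¹) = 1
      calc y ^ i * t * (y ^ i)⁻¹ * (y ^ i * t * (y ^ i)⁻¹) = y ^ i * (t * t) * (y ^ i)⁻¹ := by group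
        _ = 1 := by rw [D.tt]; group
    have h4 : (⟨_, h1⟩ : centralizer ({t} : Set X)) ≠ 1 := by
      intro h
      apply D.t_ne
      have h5 : y ^ i * t * (y ^ i)⁻¹ = 1 := congrArg Subtype.val h
      calc t = (y ^ i)⁻¹ * (y ^ i * t * (y ^ i)⁻¹) * y ^ i := by group
        _ = 1 := by rw [h5]; group
    rcases invol_Q D.M h2 h3 h4 with h | ⟨a, j, h⟩
    · exfalso
      have h5 : y ^ i * t * (y ^ i)⁻¹ = t := congrArg Subtype.val h
      exact not_comm_pow hy hyt hm (mul_inv_eq_iff_eq_mul.1 h5)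
    · exact ⟨a, j, congrArg Subtype.val h⟩
  obtain ⟨a1, j1, h1⟩ := key 1 1 rfl
  obtain ⟨a2, j2, h2⟩ := key 2 4 rfl
  obtain ⟨a3, j3, h3⟩ := key 3 5 rfl
  have hj : ∀ {i k : ℕ} {a b : ZMod 2} {j l : Fin 5},
      y ^ i * t * (y ^ i)⁻¹ = ((zp (zc t) a * v j : centralizer ({t} : Set X)) : X) →
      y ^ k * t * (y ^ k)⁻¹ = ((zp (zc t) b * v l : centralizer ({t} : Set X)) : X) → j = l := by
    intro i k a b j l h h'
    rw [← zv_comm_iff D.M a b]
    apply Subtype.ext
    show ((zp (zc t) a * v j : centralizer ({t} : Set X)) : X) * ((zp (zc t) b * v l : centralizer ({t} : Set X)) : X)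
      = ((zp (zc t) b * v l : centralizer ({t} : Set X)) : X) * ((zp (zc t) a * v j : centralizer ({t} : Set X)) : X)
    rw [← h, ← h']
    exact hE _ (hmem i) _ (hmem k)
  -- two of them equal
  have hne : ∀ {i k m : ℕ}, k * m % 7 = 1 → y ^ i * t * (y ^ i)⁻¹ ≠ y ^ (i + k) * t * (y ^ (i + k))⁻¹ := by
    intro i k m hm h
    refine not_comm_pow hy hyt hm ?_
    have h5 : y ^ k * t * (y ^ k)⁻¹ = t := by
      calc y ^ k * t * (y ^ k)⁻¹ = (y ^ i)⁻¹ * (y ^ (i + k) * t * (y ^ (i + k))⁻¹) * y ^ i := by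
            rw [pow_add]; group
        _ = (y ^ i)⁻¹ * (y ^ i * t * (y ^ i)⁻¹) * y ^ i := by rw [h]
        _ = t := by group
    exact mul_inv_eq_iff_eq_mul.1 h5
  have e12 := hj h1 h2
  have e13 := hj h1 h3
  subst e12 e13
  have h3cases : a1 = a2 ∨ a2 = a3 ∨ a1 = a3 := by
    clear h1 h2 h3
    revert a1 a2 a3
    decide
  rcases h3cases with h | h | h
  · subst h
    exact hne (i := 1) (k := 1) (m := 1) rfl (h1.trans h2.symm)
  · subst h
    exact hne (i := 2) (k := 1) (m := 1) rfl (h2.trans h3.symm)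
  · subst h
    exact hne (i := 1) (k := 2) (m := 4) rfl (h1.trans h3.symm)

theorem caseB [Finite X] (D : Dat t u Q v ρ) {E : Subgroup X} (hE2 : ∀ a ∈ E, a ^ 2 = 1)
    (h8 : 8 ∣ Nat.card E) (hno : ∀ a ∈ E, ¬ IsConj t a) : False := by
  have : Fact (Nat.Prime 2) := ⟨Nat.prime_two⟩
  have hp : IsPGroup 2 E := fun a => ⟨1, by rw [pow_one]; exact Subtype.ext (hE2 a a.2)⟩
  -- a fixed coset
  have hfix : (MulAction.fixedPoints E (X ⧸ centralizer ({t} : Set X))).Nonempty := by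
    refine hp.nonempty_fixed_point_of_prime_not_dvd_card _ ?_
    have := D.index
    rw [Subgroup.index] at this
    rw [this]
    norm_num
  obtain ⟨q, hq⟩ := hfix
  obtain ⟨g, rfl⟩ := QuotientGroup.mk_surjective q
  have hmem : ∀ a ∈ E, g⁻¹ * a * g ∈ centralizer ({t} : Set X) := by
    intro a ha
    have h1 : ((a * g : X) : X ⧸ centralizer ({t} : Set X)) = (g : X ⧸ centralizer ({t} : Set X)) := hq ⟨a, ha⟩
    have h2 := QuotientGroup.eq.1 h1.symm
    rwa [← mul_assoc] at h2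
  let f : E →* centralizer ({t} : Set X) :=
    { toFun := fun a => ⟨g⁻¹ * a * g, hmem a a.2⟩
      map_one' := Subtype.ext (by show g⁻¹ * (1 : X) * g = 1; group)
      map_mul' := fun a b => Subtype.ext (by
        show g⁻¹ * ((a : X) * b) * g = (g⁻¹ * a * g) * (g⁻¹ * b * g)
        group) }
  have hinj : Function.Injective ((permHom ρ).comp f) := by
    rw [injective_iff_map_eq_one]
    intro a ha
    have h1 : f a ∈ Q := by
      rw [← ker_permHom D.M]
      exact ha
    by_contra ha1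
    have h2 : f a ≠ 1 := by
      intro h
      apply ha1
      apply Subtype.ext
      have h3 : g⁻¹ * (a : X) * g = 1 := congrArg Subtype.val h
      calc (a : X) = g * (g⁻¹ * (a : X) * g) * g⁻¹ := by group
        _ = 1 := by rw [h3]; group
    have h4 : f a * f a = 1 := by
      rw [← map_mul]
      have : a * a = 1 := Subtype.ext (by rw [← pow_two]; exact hE2 a a.2)
      rw [this, map_one]
    have h5 := D.isConj_of_mem_Q h1 h4 h2
    refine hno a a.2 (h5.trans ?_)
    refine isConj_iff.2 ⟨g, ?_⟩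
    show g * (g⁻¹ * (a : X) * g) * g⁻¹ = a
    group
  have h1 : Nat.card E ∣ Nat.card (permHom ρ).range := by
    have h2 : ((permHom ρ).comp f).range ≤ (permHom ρ).range := by
      rintro _ ⟨a, rfl⟩
      exact ⟨f a, rfl⟩
    rw [Nat.card_congr (MonoidHom.ofInjective hinj).toEquiv]
    exact card_dvd_of_le h2
  rw [range_permHom D.M, card_A5] at h1
  have h2 := h8.trans h1
  revert h2
  norm_num

theorem no_E [Finite X] (D : Dat t u Q v ρ) {y : X} (hy : orderOf y = 7) {E : Subgroup X}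
    (hE2 : ∀ a ∈ E, a ^ 2 = 1) (hE : ∀ a ∈ E, ∀ b ∈ E, a * b = b * a) (hyE : ∀ a ∈ E, y * a * y⁻¹ ∈ E)
    (h8 : 8 ∣ Nat.card E) : False := by
  by_cases h : ∃ s ∈ E, IsConj t s
  · obtain ⟨s, hs, hts⟩ := h
    obtain ⟨g, hg⟩ := isConj_iff.1 hts
    -- conjugate by `g⁻¹`
    have hm : ∀ a, a ∈ E.map (MulAut.conj g⁻¹).toMonoidHom ↔ g * a * g⁻¹ ∈ E := by
      intro a
      constructor
      · rintro ⟨b, hb, rfl⟩
        have : g * (MulAut.conj g⁻¹).toMonoidHom b * g⁻¹ = b := by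
          show g * (g⁻¹ * b * g⁻¹⁻¹) * g⁻¹ = b
          group
        rwa [this]
      · intro h
        refine ⟨_, h, ?_⟩
        show g⁻¹ * (g * a * g⁻¹) * g⁻¹⁻¹ = a
        group
    refine caseA D (y := g⁻¹ * y * g) (E := E.map (MulAut.conj g⁻¹).toMonoidHom) ?_ ?_ ?_ ?_ ?_
    · have h1 : g⁻¹ * y * g = MulAut.conj g⁻¹ y := by
        show g⁻¹ * y * g = g⁻¹ * y * g⁻¹⁻¹
        group
      rw [h1, ← map_pow, ← hy, pow_orderOf_eq_one, map_one]
    · intro hc
      have hc1 : y * s = s * y := by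
        rw [← hg]
        calc y * (g * t * g⁻¹) = g * ((g⁻¹ * y * g) * t) * g⁻¹ := by group
          _ = g * (t * (g⁻¹ * y * g)) * g⁻¹ := by rw [hc]
          _ = _ := by group
      have hs2 : orderOf s = 2 := by
        rw [← hg]
        have : orderOf (MulAut.conj g t) = orderOf t := (MulAut.conj g).orderOf_eq t
        rw [← D.orderOf_t]
        exact this
      have h14 : orderOf (y * s) = 7 * 2 := by
        have h1 : Commute y s := hc1
        rw [h1.orderOf_mul_eq_mul_orderOf_of_coprime (by rw [hy, hs2]; norm_num), hy, hs2]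
      exact Cfsg.Agent.H379.J2Orders.not_ord_7 D.F (y * s) Nat.prime_two (Or.inl rfl) h14
    · intro a ha b hb
      rw [hm] at ha hb
      have h1 := hE _ ha _ hb
      calc a * b = g⁻¹ * ((g * a * g⁻¹) * (g * b * g⁻¹)) * g := by group
        _ = g⁻¹ * ((g * b * g⁻¹) * (g * a * g⁻¹)) * g := by rw [h1]
        _ = b * a := by group
    · intro a ha
      rw [hm] at ha ⊢
      have h1 := hyE _ ha
      have h2 : g * (g⁻¹ * y * g * a * (g⁻¹ * y * g)⁻¹) * g⁻¹ = y * (g * a * g⁻¹) * y⁻¹ := by group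
      rwa [h2]
    · rw [hm, hg]
      exact hs
  · push Not at h
    exact caseB D hE2 h8 h

theorem j2 {G : Type*} [Group G] [Finite G] (h : Spor.IsoJ2 G) : HasSU1 G := by
  have hN := NotCT.Orders.j2 h
  obtain ⟨e⟩ := h
  have : Finite Cfsg.Spor.J2 := Finite.of_equiv _ e.toEquiv
  obtain ⟨t, u, Q, v, ρ, D⟩ := Cfsg.Agent.KFacts.J2.Basic.exists_dat
  have : Fact (Nat.Prime 7) := ⟨by norm_num⟩
  obtain ⟨y, hy⟩ := exists_prime_orderOf_dvd_card' (G := G) 7 (by rw [hN]; norm_num)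
  have h1 : ¬ 7 ^ 2 ∣ Nat.card G := by rw [hN]; norm_num
  refine ⟨7, y, by norm_num, by norm_num, hy, h1, SUel.of_elem (by norm_num) h1 hy ?_ ?_⟩
  · intro w hw hw7 hc
    have hd : orderOf w ∣ 604800 := hN ▸ orderOf_dvd_natCard w
    have h235 : orderOf w = 2 ∨ orderOf w = 3 ∨ orderOf w = 5 := by
      have h2 : orderOf w ∣ 2 ^ 7 * 3 ^ 3 * 5 ^ 2 * 7 := by
        have : (2 ^ 7 * 3 ^ 3 * 5 ^ 2 * 7 : ℕ) = 604800 := by norm_num
        rw [this]; exact hd
      rcases (Nat.Prime.dvd_mul hw).1 h2 with h2 | h2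
      · rcases (Nat.Prime.dvd_mul hw).1 h2 with h2 | h2
        · rcases (Nat.Prime.dvd_mul hw).1 h2 with h2 | h2
          · exact Or.inl ((Nat.prime_dvd_prime_iff_eq hw Nat.prime_two).1 (hw.dvd_of_dvd_pow h2))
          · exact Or.inr (Or.inl ((Nat.prime_dvd_prime_iff_eq hw Nat.prime_three).1 (hw.dvd_of_dvd_pow h2)))
        · exact Or.inr (Or.inr ((Nat.prime_dvd_prime_iff_eq hw Nat.prime_five).1 (hw.dvd_of_dvd_pow h2)))
      · exact absurd ((Nat.prime_dvd_prime_iff_eq hw (by norm_num)).1 h2) hw7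
    have h14 : orderOf (y * w) = 7 * orderOf w := by
      have h1 : Commute y w := hc
      rw [h1.orderOf_mul_eq_mul_orderOf_of_coprime (by
        rw [hy]; exact (Nat.coprime_primes (by norm_num) hw).2 (Ne.symm hw7)), hy]
    refine Cfsg.Agent.H379.J2Orders.not_ord_7 D.F (e (y * w)) hw h235 ?_
    rw [MulEquiv.orderOf_eq, h14]
  · intro s k E hs hs7 hk hcard hdvd hp hE2 hE hyE
    -- `s = 2`, `k ≥ 3`
    have hs2 : s = 2 ∧ 3 ≤ k := by
      have hsd : s ∣ 604800 := by
        rw [← hN]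
        exact (dvd_pow_self s hk.ne').trans hdvd
      have h235 : s = 2 ∨ s = 3 ∨ s = 5 := by
        have h2 : s ∣ 2 ^ 7 * 3 ^ 3 * 5 ^ 2 * 7 := by
          have : (2 ^ 7 * 3 ^ 3 * 5 ^ 2 * 7 : ℕ) = 604800 := by norm_num
          rw [this]; exact hsd
        rcases (Nat.Prime.dvd_mul hs).1 h2 with h2 | h2
        · rcases (Nat.Prime.dvd_mul hs).1 h2 with h2 | h2
          · rcases (Nat.Prime.dvd_mul hs).1 h2 with h2 | h2
            · exact Or.inl ((Nat.prime_dvd_prime_iff_eq hs Nat.prime_two).1 (hs.dvd_of_dvd_pow h2))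
            · exact Or.inr (Or.inl ((Nat.prime_dvd_prime_iff_eq hs Nat.prime_three).1 (hs.dvd_of_dvd_pow h2)))
          · exact Or.inr (Or.inr ((Nat.prime_dvd_prime_iff_eq hs Nat.prime_five).1 (hs.dvd_of_dvd_pow h2)))
        · exact absurd ((Nat.prime_dvd_prime_iff_eq hs (by norm_num)).1 h2) hs7
      rw [hN] at hdvd
      rcases h235 with rfl | rfl | rfl
      · refine ⟨rfl, ?_⟩
        by_contra hk3
        have : k = 1 ∨ k = 2 := by omega
        rcases this with rfl | rfl <;> revert hp <;> norm_num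
      · exfalso
        have hk3 : k ≤ 3 := by
          by_contra hk3
          have h4 : (3 : ℕ) ^ 4 ∣ 604800 := (pow_dvd_pow 3 (by omega)).trans hdvd
          revert h4; norm_num
        have : k = 1 ∨ k = 2 ∨ k = 3 := by omega
        rcases this with rfl | rfl | rfl <;> revert hp <;> norm_num
      · exfalso
        have hk3 : k ≤ 2 := by
          by_contra hk3
          have h4 : (5 : ℕ) ^ 3 ∣ 604800 := (pow_dvd_pow 5 (by omega)).trans hdvd
          revert h4; norm_num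
        have : k = 1 ∨ k = 2 := by omega
        rcases this with rfl | rfl <;> revert hp <;> norm_num
    obtain ⟨rfl, hk3⟩ := hs2
    refine no_E D (y := e y) (E := E.map e.toMonoidHom) (by rw [MulEquiv.orderOf_eq, hy]) ?_ ?_ ?_ ?_
    · rintro _ ⟨a, ha, rfl⟩
      show (e a) ^ 2 = 1
      rw [← map_pow, hE2 a ha, map_one]
    · rintro _ ⟨a, ha, rfl⟩ _ ⟨b, hb, rfl⟩
      show e a * e b = e b * e a
      rw [← map_mul, hE a ha b hb, map_mul]
    · rintro _ ⟨a, ha, rfl⟩
      refine ⟨_, hyE a ha, ?_⟩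
      show e (y * a * y⁻¹) = e y * e a * (e y)⁻¹
      rw [map_mul, map_mul, map_inv]
    · rw [Nat.card_congr (E.equivMapOfInjective _ e.injective).toEquiv.symm, hcard]
      exact pow_dvd_pow 2 hk3

end Cfsg.Agent.H679.SpJ2
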