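import Cfsg.Agent.H679.Table
import Cfsg.Agent.S0000

/-!
# Theorem A (helper679)

**`solvable_of_conj`** : `G` finite, `N ⊴ G`, `g ∈ G` such that all `g n`, `n ∈ N`, are conjugate to `g` in `G`: then `N`
is solvable. (Consequence of the classification.)
-/

set_option autoImplicit false

namespace Cfsg.Agent.H679

/-- **Theorem A.** If `N ⊴ G` and `g n` is conjugate to `g` for all `n ∈ N`, then `N` is solvable. -/
theorem solvable_of_conj {G : Type*} [Group G] [Finite G] (N : Subgroup G) [N.Normal] (g : G)
    (h : ∀ n ∈ N, ∃ y : G, y * g * y⁻¹ = g * n) : Group.IsSolvable N :=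
  solvable_of_cc_known (fun _ _ _ _ => Cfsg.Agent.S0000.result) N g h

end Cfsg.Agent.H679
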